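import Cfsg.Agent.Lib.L34Univ.Reps

/-!
The three automorphisms in normal form: on the coefficients they are the twisted Frobenius, the negated Frobenius
and a rotation.
-/

set_option autoImplicit false
set_option linter.unusedSectionVars false

namespace Cfsg.Agent.L34Univ

open Matrix Cfsg.Agent.L34Mult Cfsg.Agent.Perm.L34Cover
open scoped commutatorElement

universe u v w

/-- The field automorphism on the coefficients. -/
def coefFrob (c : Coef) : Coef := (c.1 - c.2, -c.2)

/-- The graph automorphism on the coefficients. -/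
def coefGraph (c : Coef) : Coef := (c.2 - c.1, c.2)

/-- The diagonal automorphism on the coefficients. -/
def coefDiag (c : Coef) : Coef := (c.2 - c.1, -c.1)

variable {F : Type u} [Field F] [Fintype F] {W : Frame F} {M : Type v} [Group M] {M' : Type w} [Group M']
  {φ : M →* Matrix.ProjectiveSpecialLinearGroup (Fin 3) F}
  {φ' : M' →* Matrix.ProjectiveSpecialLinearGroup (Fin 3) F}
  (D : Ctx W φ) (D' : Ctx W φ') (b : M →* M')
include D D'

theorem Ctx.iota_image (A : Coef → Coef) (hA : ∀ p q, A (p + q) = A p + A q)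
    (h1 : b (D.kap 1)⁻¹ = D'.iota (A (1, 0))) (h2 : b (D.kap W.w)⁻¹ = D'.iota (A (0, 1))) (c : Coef) :
    b (D.iota c) = D'.iota (A c) := by
  have h0 : A 0 = 0 := by have h := hA 0 0; rwa [add_zero, left_eq_add] at h
  let ψ : Coef →+ Coef := AddMonoidHom.mk' A hA
  have hpow : ∀ (k : ℕ) (p : Coef), D'.iota p ^ k = D'.iota (k • p) := fun k p => by
    induction k with
    | zero => rw [pow_zero, zero_nsmul, D'.iota_zero]
    | succ k ih => rw [pow_succ, ih, succ_nsmul, D'.iota_add]
  rw [Ctx.iota, map_mul, map_pow, map_pow, h1, h2, hpow, hpow, ← D'.iota_add]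
  congr 1
  show c.1.val • ψ (1, 0) + c.2.val • ψ (0, 1) = ψ c
  rw [← map_nsmul, ← map_nsmul, ← map_add]
  congr 1
  refine Prod.ext ?_ ?_ <;> simp

theorem Ctx.iota_neg (c : Coef) : D'.iota (-c) = (D'.iota c)⁻¹ :=
  eq_inv_of_mul_eq_one_left (by rw [← D'.iota_add, neg_add_cancel, D'.iota_zero])

section Frob

variable (hb : ∀ m, φ' (b m) = autFrob W (φ m))
include hb

theorem Ctx.frob_iota (c : Coef) : b (D.iota c) = D'.iota (coefFrob c) := by
  refine D.iota_image D' b coefFrob (fun p q => Prod.ext ?_ ?_) ?_ ?_ c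
  · simp [coefFrob]; ring
  · simp [coefFrob]; ring
  · rw [map_inv, D.frob_kap D' b hb, one_mul, ← D'.iota_teich, W.teich_one]; rfl
  · rw [map_inv, D.frob_kap D' b hb, W.sq, ← D'.iota_teich, W.teich_w_one]; rfl

theorem Ctx.frob_nf (c : Coef) (x y e : F) :
    b (D.nf c x y e) = D'.nf (coefFrob c) (x * x) (y * y) (e * e) := by
  rw [Ctx.nf, Ctx.nf, map_mul, map_mul, map_mul, D.frob_iota D' b hb, D.frob_x D' b hb, D.frob_y D' b hb,
    D.frob_z D' b hb]
  congr 3
  linear_combination e * (x * y) * W.two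

end Frob

section Graph

variable (hb : ∀ m, φ' (b m) = autGraph (φ m))
include hb

theorem Ctx.graph_iota (c : Coef) : b (D.iota c) = D'.iota (coefGraph c) := by
  refine D.iota_image D' b coefGraph (fun p q => Prod.ext ?_ ?_) ?_ ?_ c
  · simp [coefGraph]; ring
  · simp [coefGraph]
  · rw [map_inv, D.graph_kap D' b hb, one_mul, inv_inv, ← inv_inv (D'.kap 1), ← D'.iota_teich,
      ← D.iota_neg D', W.teich_one]
    rfl
  · rw [map_inv, D.graph_kap D' b hb, W.sq, inv_inv, ← inv_inv (D'.kap (W.w + 1)), ← D'.iota_teich,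
      ← D.iota_neg D', W.teich_w_one]
    rfl

theorem Ctx.graph_nf (c : Coef) (x y e : F) :
    b (D.nf c x y e) = D'.nf (coefGraph c + W.teich (x * y ^ 2)) y x (e + x * y) := by
  rw [Ctx.nf, Ctx.nf, map_mul, map_mul, map_mul, D.graph_iota D' b hb, D.graph_x D' b hb, D.graph_y D' b hb,
    D.graph_z D' b hb, D'.y_x, D'.iota_add, mul_assoc (D'.iota _) (D'.iota _)]
  congr 1
  rw [show e + x * y + y * x = y * x + (e + x * y) by ring, show y ^ 2 * x = x * y ^ 2 by ring,
    mul_assoc (D'.x y * D'.y x * D'.z (y * x)),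
    ← (D'.iota_commute (W.teich (x * y ^ 2)) (D'.z (e + x * y))).eq, ← mul_assoc,
    (D'.iota_commute (W.teich (x * y ^ 2)) (D'.x y * D'.y x * D'.z (y * x) * D'.z (e + x * y))).eq,
    mul_assoc (D'.x y * D'.y x) (D'.z (y * x)), ← D'.z_add]

end Graph

section Diag

variable (hb : ∀ m, φ' (b m) = autDiag W (φ m))
include hb

theorem Ctx.diag_iota (c : Coef) : b (D.iota c) = D'.iota (coefDiag c) := by
  refine D.iota_image D' b coefDiag (fun p q => Prod.ext ?_ ?_) ?_ ?_ c
  · simp [coefDiag]; ring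
  · simp [coefDiag]; ring
  · rw [map_inv, D.diag_kap D' b hb, mul_one, pow_two, W.sq, ← D'.iota_teich, W.teich_w_one]
    rfl
  · rw [map_inv, D.diag_kap D' b hb, ← pow_succ, show W.w ^ (2 + 1) = 1 by
      linear_combination (W.w + 1) * W.sq + W.w * W.two, ← D'.iota_teich, W.teich_one]
    rfl

theorem Ctx.diag_nf (c : Coef) (x y e : F) :
    b (D.nf c x y e) = D'.nf (coefDiag c) (W.w * x) y (W.w * e) := by
  rw [Ctx.nf, Ctx.nf, map_mul, map_mul, map_mul, D.diag_iota D' b hb, D.diag_x D' b hb, D.diag_y D' b hb,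
    D.diag_z D' b hb]
  congr 3
  ring

end Diag

end Cfsg.Agent.L34Univ
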