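import Cfsg.Agent.Lib.L34Univ.Outer
import Cfsg.Agent.Lib.L34Univ.Action

/-!
A group with a normal subgroup of index two that contains its centraliser and is a perfect extension of a cyclic
group of order four by `L₃(4)`: coordinates on the preimage of the unitriangular group and on an outer element.
-/

set_option autoImplicit false
set_option linter.unusedSectionVars false
set_option linter.style.haveILetI false

namespace Cfsg.Agent.L34Univ

open Matrix Cfsg.Agent.L34Mult Cfsg.Agent.AutPSL.Basic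

universe u v

variable {F : Type u} [Field F] [Fintype F] (W : Frame F)

/-- The action of a representative on the coefficients. -/
noncomputable def repCoef (ρ : MulAut (Matrix.ProjectiveSpecialLinearGroup (Fin 3) F)) (c : Coef) : Coef := by
  classical
  exact if ρ = autFrob W then coefFrob c else if ρ = autGraph then coefGraph c else coefGraph (coefFrob c)

variable {W} {M : Type v} [Group M] {φ : M →* Matrix.ProjectiveSpecialLinearGroup (Fin 3) F}

theorem Ctx.graphFrob_iota (D : Ctx W φ) (hs : Function.Surjective φ) (hc : φ.ker ≤ Subgroup.center M)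
    (b : M →* M) (hb : ∀ m, φ (b m) = (autGraph * autFrob W : MulAut (Matrix.ProjectiveSpecialLinearGroup (Fin 3) F)) (φ m)) (c : Coef) :
    b (D.iota c) = D.iota (coefGraph (coefFrob c)) := by
  let φ' : M →* Matrix.ProjectiveSpecialLinearGroup (Fin 3) F := (autFrob W).toMonoidHom.comp φ
  have hker : φ'.ker ≤ Subgroup.center M := fun x hx => hc (by
    rw [MonoidHom.mem_ker] at hx ⊢
    exact (autFrob W).map_eq_one_iff.1 hx)
  obtain ⟨D'⟩ : Nonempty (Ctx W φ') := Ctx.exists_ctx ((autFrob W).surjective.comp hs) hker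
  have h1 : ∀ m, φ' (MonoidHom.id M m) = autFrob W (φ m) := fun _ => rfl
  have h2 : ∀ m, φ (b m) = autGraph (φ' m) := fun m => by rw [hb]; rfl
  rw [← D'.graph_iota D b h2, ← D.frob_iota D' (MonoidHom.id M) h1]
  rfl

theorem Ctx.rep_iota (D : Ctx W φ) (hs : Function.Surjective φ) (hc : φ.ker ≤ Subgroup.center M)
    (b : M →* M) {ρ : MulAut (Matrix.ProjectiveSpecialLinearGroup (Fin 3) F)} (hρ : IsRep W ρ)
    (hb : ∀ m, φ (b m) = ρ (φ m)) (c : Coef) : b (D.iota c) = D.iota (repCoef W ρ c) := by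
  classical
  unfold repCoef
  split_ifs with h1 h2
  · subst h1; exact D.frob_iota D b hb c
  · subst h2; exact D.graph_iota D b hb c
  · rcases hρ with rfl | rfl | rfl
    · exact absurd rfl h1
    · exact absurd rfl h2
    · exact D.graphFrob_iota hs hc b hb c

theorem rep_sq {ρ : MulAut (Matrix.ProjectiveSpecialLinearGroup (Fin 3) F)} (hρ : IsRep W ρ) : ρ * ρ = 1 := by
  rcases hρ with rfl | rfl | rfl
  · exact autFrob_sq W
  · exact autGraph_sq
  · rw [mul_assoc, ← mul_assoc (autFrob W), autFrob_graph, mul_assoc, autFrob_sq, mul_one, autGraph_sq]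

/-- The coordinates of a group of the shape of the involution centraliser of the O'Nan group. -/
structure Coords {C : Type v} [Group C] (M : Subgroup C) (W : Frame F) where
  φ : M →* Matrix.ProjectiveSpecialLinearGroup (Fin 3) F
  D : Ctx W φ
  g : C
  ρ : MulAut (Matrix.ProjectiveSpecialLinearGroup (Fin 3) F)
  z : M
  a : ZMod 4
  b : ZMod 4
  sq : Coef
  g_notMem : g ∉ M
  rep : IsRep W ρ
  conj_mem : ∀ x : M, g * x * g⁻¹ ∈ M
  map_conj : ∀ x : M, φ ⟨g * x * g⁻¹, conj_mem x⟩ = ρ (φ x)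
  orderOf_z : orderOf z = 4
  iota_eq : ∀ c : Coef, D.iota c = z ^ (a * c.1 + b * c.2).val
  unit : ∃ c : Coef, a * c.1 + b * c.2 = 1
  conj_iota : ∀ c : Coef, g * (D.iota c : C) * g⁻¹ = (D.iota (repCoef W ρ c) : C)
  g_sq : g * g = (D.iota sq : C)
  sq_fixed : D.iota (repCoef W ρ sq) = D.iota sq

theorem exists_coords (hF : Fintype.card F = 4) {C : Type v} [Group C] [Finite C] (M : Subgroup C) [M.Normal]
    (hM : M.index = 2) (hout : Subgroup.centralizer (M : Set C) ≤ M) (hZc : IsCyclic (Subgroup.center M))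
    (hZ4 : Nat.card (Subgroup.center M) = 4) (hperf : commutator M = ⊤)
    (e : M ⧸ Subgroup.center M ≃* Matrix.ProjectiveSpecialLinearGroup (Fin 3) F) :
    ∃ W : Frame F, Nonempty (Coords M W) := by
  classical
  haveI : CharP F 2 := charP_of_card_eq_prime_pow (f := 2) (by rw [hF]; norm_num)
  obtain ⟨W⟩ := exists_frame hF
  let φ₀ : M →* Matrix.ProjectiveSpecialLinearGroup (Fin 3) F :=
    e.toMonoidHom.comp (QuotientGroup.mk' (Subgroup.center M))
  have hs₀ : Function.Surjective φ₀ := e.surjective.comp (QuotientGroup.mk'_surjective _)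
  have hc₀ : φ₀.ker ≤ Subgroup.center M := fun x hx => (QuotientGroup.eq_one_iff x).1 (e.map_eq_one_iff.1 hx)
  obtain ⟨g₀, hg₀⟩ : ∃ g₀ : C, g₀ ∉ M := by
    by_contra h
    push Not at h
    rw [(Subgroup.eq_top_iff' M).2 h, Subgroup.index_top] at hM
    norm_num at hM
  have hsq₀ : g₀ * g₀ ∈ M := Subgroup.mul_self_mem_of_index_two hM g₀
  let b₀ : MulAut M := MulAut.conjNormal g₀
  have hb₀ : ∀ x : M, (b₀ x : C) = g₀ * x * g₀⁻¹ := fun x => MulAut.conjNormal_apply g₀ x
  obtain ⟨i, m, ρ, hρ, hnorm⟩ := exists_normalised (W := W) hs₀ hc₀ hperf b₀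
    (fun m e => hg₀ (by
      have h : (m : C)⁻¹ * g₀ ∈ M := hout (Subgroup.mem_centralizer_iff.2 fun x hx => by
        have h := congrArg (fun f : MulAut M => (f ⟨x, hx⟩ : C)) e
        simp only [MulAut.conj_apply, Subgroup.coe_mul, InvMemClass.coe_inv, hb₀] at h
        calc x * ((m : C)⁻¹ * g₀) = (m : C)⁻¹ * (m * x * (m : C)⁻¹) * g₀ := by group
          _ = (m : C)⁻¹ * g₀ * x := by rw [← h]; group)
      simpa using M.mul_mem m.2 h))
    ⟨⟨_, hsq₀⟩, MulEquiv.ext fun x => Subtype.ext (by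
      simp only [MulAut.mul_apply, MulAut.conj_apply, hb₀, Subgroup.coe_mul, InvMemClass.coe_inv]
      group)⟩
  let φ : M →* Matrix.ProjectiveSpecialLinearGroup (Fin 3) F := (autDiag W ^ i).toMonoidHom.comp φ₀
  have hs : Function.Surjective φ := (autDiag W ^ i).surjective.comp hs₀
  have hc : φ.ker ≤ Subgroup.center M := fun x hx => hc₀ ((autDiag W ^ i).map_eq_one_iff.1 hx)
  obtain ⟨D⟩ : Nonempty (Ctx W φ) := Ctx.exists_ctx hs hc
  let g : C := m * g₀
  have hg : g ∉ M := fun h => hg₀ (by simpa [g] using M.mul_mem (M.inv_mem m.2) h)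
  have hmem : ∀ x : M, g * x * g⁻¹ ∈ M := fun x => Subgroup.Normal.conj_mem inferInstance _ x.2 g
  have hconj : ∀ x : M, φ ⟨g * x * g⁻¹, hmem x⟩ = ρ (φ x) := fun x => by
    refine Eq.trans (congrArg φ (Subtype.ext ?_)) (hnorm x)
    simp only [Subgroup.coe_mul, InvMemClass.coe_inv, hb₀, g]
    group
  let β : M →* M := ((MulAut.conjNormal g : MulAut M)).toMonoidHom
  have hβ : ∀ x, φ (β x) = ρ (φ x) := fun x =>
    (congrArg φ (Subtype.ext (MulAut.conjNormal_apply g x) : β x = ⟨g * x * g⁻¹, hmem x⟩)).trans (hconj x)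
  -- the centre is generated by the coefficients
  obtain ⟨z, hz⟩ := hZc.exists_generator
  have hoz : orderOf (z : M) = 4 := by
    rw [Subgroup.orderOf_coe, orderOf_eq_card_of_forall_mem_zpowers hz, hZ4]
  have hker : ∀ x : M, φ x = 1 ↔ x ∈ Subgroup.center M := L34Mult.ker_eq_center hs hc
  have hlin : ∀ c : Coef, ∃ k : ZMod 4, D.iota c = (z : M) ^ k.val := fun c => by
    obtain ⟨k, hk⟩ := Subgroup.mem_zpowers_iff.1 (hz ⟨_, (hker _).1 (D.iota_map c)⟩)
    refine ⟨(k : ZMod 4), ?_⟩
    have h' : D.iota c = (z : M) ^ k := (congrArg Subtype.val hk).symm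
    rw [h', ← zpow_natCast, ZMod.val_intCast, show ((4 : ℕ) : ℤ) = (orderOf (z : M) : ℤ) by rw [hoz],
      zpow_mod_orderOf]
  choose lin hlin using hlin
  have hinj : ∀ k l : ZMod 4, (z : M) ^ k.val = (z : M) ^ l.val → k = l := fun k l h => by
    have h' := pow_injOn_Iio_orderOf (x := (z : M)) (by rw [hoz]; exact Set.mem_Iio.2 k.val_lt)
      (by rw [hoz]; exact Set.mem_Iio.2 l.val_lt) h
    exact ZMod.val_injective _ h'
  have hp : ∀ k l : ZMod 4, (z : M) ^ (k + l).val = (z : M) ^ k.val * (z : M) ^ l.val := fun k l => by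
    rw [← pow_add, ZMod.val_add]
    conv_rhs => rw [← pow_mod_orderOf, hoz]
  let ψ : Coef →+ ZMod 4 := AddMonoidHom.mk' lin fun c d => hinj _ _ (by
    rw [← hlin, D.iota_add, hp, hlin c, hlin d])
  have hψ : ∀ c, lin c = lin (1, 0) * c.1 + lin (0, 1) * c.2 := fun c => by
    have e : c = c.1.val • ((1, 0) : Coef) + c.2.val • ((0, 1) : Coef) := by
      refine Prod.ext ?_ ?_ <;> simp
    conv_lhs => rw [e, show lin _ = ψ _ from rfl, map_add, map_nsmul, map_nsmul]
    simp only [nsmul_eq_mul, ZMod.natCast_zmod_val]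
    show c.1 * lin (1, 0) + c.2 * lin (0, 1) = _
    ring
  have hunit : ∃ c : Coef, lin (1, 0) * c.1 + lin (0, 1) * c.2 = 1 := by
    obtain ⟨c, hcz⟩ := D.pow_index_mem hF hperf (z := (z : M)) ((hker _).2 z.2)
    obtain ⟨k, hk⟩ := odd_index (F := F)
    refine ⟨(AutPSL.Roots.unitri (n := 3) (F := F)).index • c, ?_⟩
    rw [← hψ, show lin _ = ψ _ from rfl, map_nsmul, show ψ c = lin c from rfl]
    have h2 : lin c = ((AutPSL.Roots.unitri (n := 3) (F := F)).index : ZMod 4) := hinj _ _ (by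
      rw [← hlin, hcz, ZMod.val_natCast]
      conv_lhs => rw [← pow_mod_orderOf, hoz])
    rw [h2, nsmul_eq_mul, hk, Nat.cast_add, Nat.cast_mul]
    have : ∀ x : ZMod 4, (2 * x + 1) * (2 * x + 1) = 1 := by decide
    exact this _
  -- the square of the outer element
  have hgg : g * g ∈ M := Subgroup.mul_self_mem_of_index_two hM g
  have hggc : (⟨g * g, hgg⟩ : M) ∈ Subgroup.center M := Subgroup.mem_center_iff.2 fun x => by
    have h1 : φ ((MulAut.conj (⟨g * g, hgg⟩ : M)) x) = φ x := by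
      have h2 : (MulAut.conj (⟨g * g, hgg⟩ : M)) x = β (β x) := Subtype.ext (by
        show g * g * (x : C) * (g * g)⁻¹ = ((MulAut.conjNormal g (MulAut.conjNormal g x) : M) : C)
        rw [MulAut.conjNormal_apply, MulAut.conjNormal_apply]
        group)
      rw [h2, hβ, hβ, ← MulAut.mul_apply, rep_sq hρ, MulAut.one_apply]
    have h3 := DFunLike.congr_fun (hom_ext_central (p := (MulAut.conj (⟨g * g, hgg⟩ : M)).toMonoidHom)
      (q := MonoidHom.id M) hperf hc (MonoidHom.ext fun y => by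
        show φ ((MulAut.conj (⟨g * g, hgg⟩ : M)) y) = φ y
        have h2 : (MulAut.conj (⟨g * g, hgg⟩ : M)) y = β (β y) := Subtype.ext (by
          show g * g * (y : C) * (g * g)⁻¹ = ((MulAut.conjNormal g (MulAut.conjNormal g y) : M) : C)
          rw [MulAut.conjNormal_apply, MulAut.conjNormal_apply]
          group)
        rw [h2, hβ, hβ, ← MulAut.mul_apply, rep_sq hρ, MulAut.one_apply])) x
    exact (mul_inv_eq_iff_eq_mul.1 h3).symm
  obtain ⟨c, hc1⟩ := hunit
  obtain ⟨k, hk⟩ := Subgroup.mem_zpowers_iff.1 (hz ⟨_, hggc⟩)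
  have hk' : (z : M) ^ k = (⟨g * g, hgg⟩ : M) := congrArg Subtype.val hk
  have hsq : D.iota ((k : ZMod 4).val • c) = (⟨g * g, hgg⟩ : M) := by
    rw [hlin, show lin _ = ψ _ from rfl, map_nsmul, show ψ c = lin c from rfl, hψ, hc1, nsmul_one,
      ZMod.natCast_zmod_val, ← hk', ← zpow_natCast, ZMod.val_intCast,
      show ((4 : ℕ) : ℤ) = (orderOf (z : M) : ℤ) by rw [hoz], zpow_mod_orderOf]
  refine ⟨W, ⟨{
    φ := φ
    D := D
    g := g
    ρ := ρ
    z := z
    a := lin (1, 0)
    b := lin (0, 1)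
    sq := (k : ZMod 4).val • c
    g_notMem := hg
    rep := hρ
    conj_mem := hmem
    map_conj := hconj
    orderOf_z := hoz
    iota_eq := fun d => by rw [← hψ, hlin]
    unit := ⟨c, hc1⟩
    conj_iota := fun d => by
      rw [← MulAut.conjNormal_apply g (D.iota d), ← D.rep_iota hs hc β hρ hβ d]
      rfl
    g_sq := by rw [hsq]
    sq_fixed := by
      rw [← D.rep_iota hs hc β hρ hβ, hsq]
      refine Subtype.ext ?_
      show ((MulAut.conjNormal g (⟨g * g, hgg⟩ : M) : M) : C) = g * g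
      rw [MulAut.conjNormal_apply]
      group }⟩⟩

end Cfsg.Agent.L34Univ
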