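import Cfsg.Agent.Lib.L34Univ.Relations
import Cfsg.Agent.Lib.L34Mult.TwoBound

/-!
The preimage of the unitriangular group in a perfect central extension of `L₃(4)` is a quotient of the extension
of the unitriangular group by the cocycle with values in `GR(4,2)`.
-/

set_option autoImplicit false
set_option linter.unusedSectionVars false
set_option linter.style.haveILetI false

namespace Cfsg.Agent.L34Univ

open Matrix Cfsg.Agent.AutPSL.Roots Cfsg.Agent.AutPSL.Basic Cfsg.Agent.L34Mult Cfsg.Agent.Perm.L34Cover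
open Cfsg.Agent.Suzuki.Eight
open scoped commutatorElement

universe u v

variable {F : Type u} [Field F] [Fintype F] {M : Type v} [Group M] {W : Frame F}
  {φ : M →* Matrix.ProjectiveSpecialLinearGroup (Fin 3) F} (D : Ctx W φ)
include D

theorem Ctx.psi_pow_four (v : F) : (D.kap v) ^ 4 = 1 := by
  rw [show 4 = 2 * 2 from rfl, pow_mul, pow_two (D.kap v), D.kap_sq, pow_two, D.psi_sq]

/-- The value of a coefficient in the kernel. -/
noncomputable def Ctx.iota (c : Coef) : M := (D.kap 1)⁻¹ ^ c.1.val * (D.kap W.w)⁻¹ ^ c.2.val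

theorem Ctx.iota_map (c : Coef) : φ (D.iota c) = 1 := by
  rw [Ctx.iota, map_mul, map_pow, map_pow, map_inv, map_inv, D.kap_map, D.kap_map, inv_one, one_pow, one_pow,
    one_mul]

theorem Ctx.iota_commute (c : Coef) (g : M) : Commute g (D.iota c) := D.central' (D.iota_map c) g

theorem Ctx.iota_add (c d : Coef) : D.iota (c + d) = D.iota c * D.iota d := by
  have hp : ∀ v, ∀ a b : ZMod 4, (D.kap v)⁻¹ ^ (a + b).val = (D.kap v)⁻¹ ^ a.val * (D.kap v)⁻¹ ^ b.val :=
    fun v a b => by
      rw [← pow_add, ZMod.val_add, ← pow_eq_pow_mod _ (by rw [inv_pow, D.psi_pow_four, inv_one])]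
  simp only [Ctx.iota, Prod.fst_add, Prod.snd_add, hp]
  rw [((D.kap_commute W.w ((D.kap 1)⁻¹ ^ d.1.val)).inv_right.pow_right c.2.val).symm.mul_mul_mul_comm]

theorem Ctx.iota_zero : D.iota 0 = 1 := by simp [Ctx.iota]

theorem Ctx.iota_teich (v : F) : D.iota (W.teich v) = (D.kap v)⁻¹ := by
  rcases W.cases v with rfl | rfl | rfl | rfl
  · rw [W.teich_zero, D.iota_zero, D.kap_zero, inv_one]
  · rw [W.teich_one, Ctx.iota, show ((1 : ZMod 4)).val = 1 from rfl, show ((0 : ZMod 4)).val = 0 from rfl,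
      pow_one, pow_zero, mul_one]
  · rw [W.teich_w, Ctx.iota, show ((1 : ZMod 4)).val = 1 from rfl, show ((0 : ZMod 4)).val = 0 from rfl,
      pow_one, pow_zero, one_mul]
  · have hq : ∀ v, (D.kap v)⁻¹ ^ 3 = D.kap v := fun v => by
      rw [inv_pow, inv_eq_of_mul_eq_one_left]
      rw [← pow_succ', D.psi_pow_four]
    rw [W.teich_w_one, Ctx.iota, show ((3 : ZMod 4)).val = 3 from rfl, hq, hq, eq_inv_iff_mul_eq_one, D.kap_add,
      mul_one, show W.w ^ 2 = W.w + 1 by rw [pow_two, W.sq], D.psi_add, ← D.kap_sq W.w, ← D.kap_sq 1]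
    calc D.kap 1 * D.kap W.w * (D.kap W.w * D.kap 1 * (D.kap W.w * D.kap W.w * (D.kap 1 * D.kap 1)))
        = D.kap 1 * (D.kap W.w * D.kap W.w) * D.kap 1 * (D.psi W.w * D.psi 1) := by
          rw [D.kap_sq, D.kap_sq]; simp only [mul_assoc]; rw [← mul_assoc (D.kap W.w) (D.kap W.w), D.kap_sq]
      _ = D.psi W.w * (D.kap 1 * D.kap 1) * (D.psi W.w * D.psi 1) := by
          rw [D.kap_sq, (D.psi_commute W.w (D.kap 1)).eq]; simp only [mul_assoc]
      _ = 1 := by
          rw [D.kap_sq, ← D.psi_add, ← D.psi_add, W.add_self, D.psi_zero]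

theorem Ctx.iota_dbl (v : F) : D.iota (W.dbl v) = D.psi v := by
  rw [Frame.dbl, D.iota_add, D.iota_teich, ← _root_.mul_inv_rev, D.kap_sq, inv_eq_of_mul_eq_one_right (D.psi_sq v)]

theorem Ctx.z_x (d a : F) : D.z d * D.x a = D.x a * D.z d * D.iota (W.dbl (a * d)) := by
  rw [D.iota_dbl, mul_assoc, (D.psi_commute _ (D.z d)).eq, ← D.conj_z_x, ← mul_assoc, ← mul_assoc, D.x_sq, one_mul]

theorem Ctx.z_y (d b : F) : D.z d * D.y b = D.y b * D.z d * D.iota (W.dbl ((b * d) ^ 2)) := by
  rw [D.iota_dbl, mul_assoc, (D.psi_commute _ (D.z d)).eq, ← D.phi2_eq, ← D.conj_z_y, ← mul_assoc, ← mul_assoc,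
    D.y_sq, one_mul]

theorem Ctx.y_x (b a : F) : D.y b * D.x a = D.x a * D.y b * D.z (a * b) * D.iota (W.teich (a ^ 2 * b)) := by
  have h := D.comm_xy a b
  rw [commutatorElement_def, show (D.x a)⁻¹ = D.x a from D.lift_inv _ a,
    show (D.y b)⁻¹ = D.y b from D.lift_inv _ b] at h
  have h1 : D.x a * D.y b = D.z (a * b) * D.kap (a ^ 2 * b) * (D.y b * D.x a) := by
    rw [← h]
    calc D.x a * D.y b = D.x a * D.y b * (D.x a * (D.y b * D.y b) * D.x a) := by
          rw [D.y_sq, mul_one, D.x_sq, mul_one]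
      _ = _ := by simp only [mul_assoc]
  -- move the central factor and the long root across
  have h2 : D.y b * D.x a = (D.kap (a ^ 2 * b))⁻¹ * (D.z (a * b) * (D.x a * D.y b)) := by
    rw [h1, mul_assoc (D.z (a * b)), ← mul_assoc (D.z (a * b)) (D.z (a * b)), D.z_sq, one_mul, inv_mul_cancel_left]
  have h3 : D.z (a * b) * (D.x a * D.y b) = D.x a * D.y b * D.z (a * b) := by
    have e : (b * (a * b)) ^ 2 = a * (a * b) := by
      rw [show (b * (a * b)) ^ 2 = a ^ 2 * b ^ 4 by ring, W.pow_four]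
      ring
    calc D.z (a * b) * (D.x a * D.y b) = D.x a * D.z (a * b) * D.psi (a * (a * b)) * D.y b := by
          rw [← mul_assoc, D.z_x, D.iota_dbl]
      _ = D.x a * (D.z (a * b) * D.y b) * D.psi (a * (a * b)) := by
          rw [mul_assoc (D.x a * D.z (a * b)), ← (D.psi_commute _ (D.y b)).eq]; simp only [mul_assoc]
      _ = D.x a * D.y b * D.z (a * b) * (D.psi (a * (a * b)) * D.psi (a * (a * b))) := by
          rw [D.z_y, D.iota_dbl, e]; simp only [mul_assoc]
      _ = _ := by rw [D.psi_sq, mul_one]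
  rw [h2, h3, D.iota_teich, (D.kap_commute (a ^ 2 * b) (D.x a * D.y b * D.z (a * b))).inv_right.eq]

/-- The normal form. -/
noncomputable def Ctx.nf (c : Coef) (a b e : F) : M := D.iota c * (D.x a * D.y b * D.z (e + a * b))

theorem Ctx.nf_mul (c c' : Coef) (a b e a' b' e' : F) :
    D.nf c a b e * D.nf c' a' b' e' = D.nf (c + c' + W.val a b e a' b') (a + a') (b + b') (e + e' + a * b') := by
  set d := e + a * b
  set d' := e' + a' * b'
  set k1 := W.dbl (a' * d)
  set k2 := W.teich (a' ^ 2 * b)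
  set k3 := W.dbl ((b' * (a' * b + d)) ^ 2)
  have hval : W.val a b e a' b' = k1 + k2 + k3 := by
    simp only [Frame.val, k1, k2, k3, d, W.dbl_add]
    rw [show (b' * (a' * b + (e + a * b))) ^ 2 = b' ^ 2 * (e + a * b + a' * b) ^ 2 by ring]
    abel
  have hd : e + e' + a * b' + (a + a') * (b + b') = a' * b + d + d' := by
    simp only [d, d']; linear_combination a * b' * W.two
  have core : D.x a * D.y b * D.z d * (D.x a' * D.y b' * D.z d') =
      D.iota (k1 + k2 + k3) * (D.x (a + a') * D.y (b + b') * D.z (a' * b + d + d')) := by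
    have mv : ∀ (k : Coef) (g h : M), g * D.iota k * h = D.iota k * (g * h) := fun k g h => by
      rw [(D.iota_commute k g).eq, mul_assoc]
    calc D.x a * D.y b * D.z d * (D.x a' * D.y b' * D.z d')
        = D.x a * D.y b * (D.z d * D.x a') * (D.y b' * D.z d') := by simp only [mul_assoc]
      _ = D.x a * D.y b * (D.x a' * D.z d) * D.iota k1 * (D.y b' * D.z d') := by
          rw [D.z_x]; simp only [mul_assoc]; rfl
      _ = D.iota k1 * (D.x a * (D.y b * D.x a') * D.z d * (D.y b' * D.z d')) := by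
          rw [mv]; simp only [mul_assoc]
      _ = D.iota k1 * (D.x a * (D.x a' * D.y b * D.z (a' * b)) * D.iota k2 * (D.z d * (D.y b' * D.z d'))) := by
          rw [D.y_x]; simp only [mul_assoc]; rfl
      _ = D.iota k1 * (D.iota k2 * (D.x a * D.x a' * D.y b * (D.z (a' * b + d) * D.y b') * D.z d')) := by
          rw [mv, D.z_add (a' * b) d]; simp only [mul_assoc]
      _ = D.iota k1 * (D.iota k2 * (D.x a * D.x a' * D.y b * (D.y b' * D.z (a' * b + d)) * D.iota k3 * D.z d')) := by
          rw [D.z_y]; simp only [mul_assoc]; rfl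
      _ = _ := by
          rw [mv, D.iota_add, D.iota_add, D.x_add, D.y_add, D.z_add (a' * b + d) d']; simp only [mul_assoc]
  rw [Ctx.nf, Ctx.nf, Ctx.nf, hval, hd]
  calc D.iota c * (D.x a * D.y b * D.z d) * (D.iota c' * (D.x a' * D.y b' * D.z d'))
      = D.iota c * D.iota c' * (D.x a * D.y b * D.z d * (D.x a' * D.y b' * D.z d')) := by
        rw [(D.iota_commute c' (D.x a * D.y b * D.z d)).symm.mul_mul_mul_comm]
    _ = _ := by rw [core, D.iota_add (c + c'), D.iota_add c c', ← mul_assoc (D.iota c * D.iota c')]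

/-- The map of the extension by the cocycle. -/
noncomputable def Ctx.theta : Ext W.cocycle →* M :=
  MonoidHom.mk' (fun g =>
    let s : Matrix.SpecialLinearGroup (Fin 3) F := ((unitriEquiv F).symm g.val).1
    D.nf g.ker (s.1 0 1) (s.1 1 2) (s.1 0 2)) fun g h => by
    obtain ⟨a1, a2, a3⟩ := unitri_entries ((unitriEquiv F).symm g.val).2 ((unitriEquiv F).symm h.val).2
    simp only [Ext.mul_def, map_mul, Subgroup.coe_mul, a1, a2, a3]
    exact (D.nf_mul _ _ _ _ _ _ _ _).symm

theorem Ctx.theta_kernel (c : Coef) : D.theta ⟨c, 1⟩ = D.iota c := by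
  show D.nf c _ _ _ = _
  simp [Ctx.nf, show D.x 0 = 1 from D.lift_zero _, show D.y 0 = 1 from D.lift_zero _,
    show D.z 0 = 1 from D.lift_zero _]

theorem Ctx.map_theta (g : Ext W.cocycle) : φ (D.theta g) = (g.val : Matrix.ProjectiveSpecialLinearGroup (Fin 3) F) := by
  have hs := ((unitriEquiv F).symm g.val).2
  have e : ((g.val : unitri (n := 3) (F := F)) : Matrix.ProjectiveSpecialLinearGroup (Fin 3) F) =
      QuotientGroup.mk ((unitriEquiv F).symm g.val).1 := by
    conv_lhs => rw [← (unitriEquiv F).apply_symm_apply g.val]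
    rfl
  show φ (D.nf _ _ _ _) = _
  rw [Ctx.nf, map_mul, D.iota_map, one_mul, map_mul, map_mul, D.map_x, D.map_y, D.map_z, e, p12, p23, p13,
    ← QuotientGroup.mk_mul, ← QuotientGroup.mk_mul]
  congr 1
  generalize ((unitriEquiv F).symm g.val).1 = s at hs ⊢
  refine Subtype.ext ?_
  ext i j
  have h1 := hs.1
  have h2 := hs.2
  fin_cases i <;> fin_cases j <;>
    simp [rowE_coe, colE_coe, Matrix.SpecialLinearGroup.coe_mul, Matrix.mul_apply, Fin.sum_univ_three, h1, h2] <;>
    linear_combination (s.1 0 1 * s.1 1 2) * W.two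

/-- The coefficients cover every power by the index of the unitriangular group of a kernel element of a perfect
extension. -/
theorem Ctx.pow_index_mem (hF : Fintype.card F = 4) [Finite M] (hM : commutator M = ⊤) {z : M} (hz : φ z = 1) :
    ∃ c, D.iota c = z ^ (unitri (n := 3) (F := F)).index := by
  haveI : CharP F 2 := charP_of_card_eq_prime_pow (f := 2) (by rw [hF]; norm_num)
  let T : Subgroup M := (unitri (n := 3) (F := F)).comap φ
  haveI : T.FiniteIndex := inferInstance
  have hm := pow_index_mem_derived T (D.central hz) (hM ▸ Subgroup.mem_top z)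
  rw [Subgroup.index_comap_of_surjective _ D.surjective] at hm
  have hle : ⁅T, T⁆ ≤ D.theta.range := by
    rw [Subgroup.commutator_le]
    intro g hg h hh
    refine ⟨⁅(⟨0, ⟨φ g, hg⟩⟩ : Ext W.cocycle), ⟨0, ⟨φ h, hh⟩⟩⁆, ?_⟩
    rw [map_commutatorElement]
    exact Transfer.SplitLifts.comm_congr D.central (D.map_theta _) (D.map_theta _)
  obtain ⟨g, hg⟩ := hle hm
  have h1 : g.val = 1 := Subtype.ext (by
    rw [← D.map_theta, hg, map_pow, hz, one_pow]; rfl)
  refine ⟨g.ker, ?_⟩
  rw [← D.theta_kernel, ← hg]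
  exact congrArg D.theta (Ext.ext' _ rfl h1.symm)

end Cfsg.Agent.L34Univ
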