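import Cfsg.Agent.Lib.L34Univ.Sylow

/-!
Images of the lifted root groups under a map of central extensions over an automorphism of `L₃(4)` that fixes or
inverts the torus element.
-/

set_option autoImplicit false
set_option linter.unusedSectionVars false

namespace Cfsg.Agent.L34Univ

open Matrix Cfsg.Agent.L34Mult Cfsg.Agent.Perm.L34Cover
open scoped commutatorElement

universe u v w

variable {F : Type u} [Field F] [Fintype F] {M : Type v} [Group M] {M' : Type w} [Group M'] {W : Frame F}
  {φ : M →* Matrix.ProjectiveSpecialLinearGroup (Fin 3) F}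
  {φ' : M' →* Matrix.ProjectiveSpecialLinearGroup (Fin 3) F}

/-- An additive lift of a line that the torus lift carries to itself as it should is the equivariant one. -/
theorem Ctx.lift_unique (D : Ctx W φ) (L : Line W) (f : F → M) (hadd : ∀ a b, f (a + b) = f a * f b)
    (hmap : ∀ a, φ (f a) = L.el a) (hconj : ∀ a, D.t * f a * D.t⁻¹ = f ((L.k + 1) * a)) (a : F) :
    f a = D.lift L a := by
  have h0 : f 0 = 1 := left_eq_mul.1 (show f 0 = f 0 * f 0 by rw [← hadd, add_zero])
  have hinv : ∀ a, (f a)⁻¹ = f a := fun a => inv_eq_of_mul_eq_one_right (by rw [← hadd, W.add_self, h0])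
  rw [D.lift_eq L (hmap (L.k⁻¹ * a)), commutatorElement_def, hconj, hinv, ← hadd]
  congr 1
  linear_combination (-a) * mul_inv_cancel₀ L.k_ne - (L.k⁻¹ * a) * W.two

/-- Conjugation by a lift of the inverse of the torus element undoes conjugation by the lift. -/
theorem Ctx.conj_eq (D : Ctx W φ) {g u : M} (hg : φ g = φ D.t) : g * u * g⁻¹ = D.t * u * D.t⁻¹ := by
  have h : Commute u (D.t⁻¹ * g) := D.central' (by rw [map_mul, map_inv, hg, inv_mul_cancel]) u
  calc g * u * g⁻¹ = D.t * (D.t⁻¹ * g * u) * g⁻¹ := by group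
    _ = D.t * (u * (D.t⁻¹ * g)) * g⁻¹ := by rw [h.eq]
    _ = _ := by group

variable (D : Ctx W φ) (D' : Ctx W φ') (b : M →* M')
  (α : Matrix.ProjectiveSpecialLinearGroup (Fin 3) F →* Matrix.ProjectiveSpecialLinearGroup (Fin 3) F)
  (hb : ∀ m, φ' (b m) = α (φ m))
include hb

/-- An automorphism fixing the torus element. -/
theorem Ctx.image_line (hα : α (QuotientGroup.mk (tor W)) = QuotientGroup.mk (tor W)) (L L' : Line W) (s : F ≃+ F)
    (hs : ∀ a, α (L.el a) = L'.el (s a)) (hk : ∀ a, s ((L.k + 1) * a) = (L'.k + 1) * s a) (a : F) :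
    b (D.lift L a) = D'.lift L' (s a) := by
  have h := D'.lift_unique L' (fun c => b (D.lift L (s.symm c)))
    (fun c d => by rw [map_add, D.lift_add, map_mul])
    (fun c => by rw [hb, D.map_lift, hs, s.apply_symm_apply])
    (fun c => by
      have e : s.symm ((L'.k + 1) * c) = (L.k + 1) * s.symm c := by
        apply s.injective; rw [s.apply_symm_apply, hk, s.apply_symm_apply]
      rw [← D'.conj_eq (g := b D.t) (by rw [hb, D.map_t, hα, D'.map_t]), ← map_inv, ← map_mul, ← map_mul,
        D.conj_lift, e]) (s a)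
  simpa using h

/-- An automorphism inverting the torus element. -/
theorem Ctx.image_line_inv (hα : α (QuotientGroup.mk (tor W)) = (QuotientGroup.mk (tor W))⁻¹) (L L' : Line W)
    (s : F ≃+ F) (hs : ∀ a, α (L.el a) = L'.el (s a)) (hk : ∀ a, (L'.k + 1) * s ((L.k + 1) * a) = s a) (a : F) :
    b (D.lift L a) = D'.lift L' (s a) := by
  have h := D'.lift_unique L' (fun c => b (D.lift L (s.symm c)))
    (fun c d => by rw [map_add, D.lift_add, map_mul])
    (fun c => by rw [hb, D.map_lift, hs, s.apply_symm_apply])
    (fun c => by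
      have e : (L.k + 1) * s.symm ((L'.k + 1) * c) = s.symm c := by
        apply s.injective
        have hne : L'.k + 1 ≠ 0 := fun h0 => by
          have h2 := hk (s.symm 1)
          rw [h0, zero_mul, s.apply_symm_apply] at h2
          exact one_ne_zero h2.symm
        rw [s.apply_symm_apply]
        have h1 := hk (s.symm ((L'.k + 1) * c))
        rw [s.apply_symm_apply] at h1
        exact mul_left_cancel₀ hne h1
      rw [← D'.conj_eq (g := (b D.t)⁻¹) (by rw [map_inv, hb, D.map_t, hα, D'.map_t, inv_inv]), ← map_inv,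
        ← map_inv, ← map_mul, ← map_mul, inv_inv]
      refine congrArg b ?_
      rw [← e, ← D.conj_lift]
      group
      ) (s a)
  simpa using h

end Cfsg.Agent.L34Univ
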