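import Cfsg.Agent.Lib.L34Mult.OddBound

/-!
The universal property of the cover of `L₃(4)`: every perfect central extension is a quotient, and automorphisms
lift uniquely.
-/

set_option autoImplicit false
set_option linter.unusedSectionVars false
set_option linter.style.haveILetI false

namespace Cfsg.Agent.L34Univ

open Cfsg.Agent.L34Mult
open scoped commutatorElement

universe u v w

variable {F : Type u} [Field F] [Fintype F]

local notation "PSL3" => Matrix.ProjectiveSpecialLinearGroup (Fin 3) F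

/-- The kernel of a stem extension has at most forty-eight elements. -/
theorem card_ker_le (hF : Fintype.card F = 4) {Γ : Type v} [Group Γ] [Finite Γ] {σ : Γ →* PSL3}
    (hs : Cfsg.IsStemExtension σ) : Nat.card σ.ker ≤ 48 := by
  haveI : CharP F 2 := charP_of_card_eq_prime_pow (f := 2) (by rw [hF]; norm_num)
  obtain ⟨y₁, hy₁, y₂, hy₂, h1, h2, hgen⟩ := exists_two_gen hF hs
  obtain ⟨z₀, hz₀, h0, hodd⟩ := exists_odd_gen hF hs
  have hexp := fun z (hz : z ∈ σ.ker) => pow_four_index hs hz
  obtain ⟨m, hm⟩ := odd_index (F := F)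
  obtain ⟨-, hc, -⟩ := hs
  have hK : ∀ {x : Γ}, x ∈ σ.ker → ∀ g : Γ, Commute g x := fun {x} hx =>
    Subgroup.mem_center_iff.1 (hc hx)
  let val : Fin 3 × Fin 4 × Fin 4 → Γ := fun t => z₀ ^ t.1.val * (y₁ ^ t.2.1.val * y₂ ^ t.2.2.val)
  have hpow : ∀ {z : Γ} (n : ℕ) [NeZero n], z ^ n = 1 → ∀ a b : Fin n,
      z ^ (a + b).val = z ^ a.val * z ^ b.val := fun {z} n _ hz a b => by
    rw [← pow_add, Fin.val_add, ← pow_eq_pow_mod _ hz]
  have hmul : ∀ s t, val s * val t = val (s + t) := fun s t => by
    simp only [val, Prod.fst_add, Prod.snd_add, hpow 3 h0, hpow 4 h1, hpow 4 h2]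
    rw [(hK (mul_mem (pow_mem hy₁ s.2.1.val) (pow_mem hy₂ s.2.2.val)) (z₀ ^ t.1.val)).symm.mul_mul_mul_comm,
      (hK (pow_mem hy₂ s.2.2.val) (y₁ ^ t.2.1.val)).symm.mul_mul_mul_comm]
  have hzero : val 0 = 1 := by simp [val]
  let S : Subgroup Γ :=
    { carrier := Set.range val
      one_mem' := ⟨0, hzero⟩
      mul_mem' := by
        rintro _ _ ⟨s, rfl⟩ ⟨t, rfl⟩
        exact ⟨s + t, (hmul s t).symm⟩
      inv_mem' := by
        rintro _ ⟨s, rfl⟩
        exact ⟨-s, eq_inv_of_mul_eq_one_left (by rw [hmul, neg_add_cancel, hzero])⟩ }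
  have e0 : z₀ ∈ S := ⟨(1, 0, 0), by simp [val]⟩
  have e1 : y₁ ∈ S := ⟨(0, 1, 0), by simp [val]⟩
  have e2 : y₂ ∈ S := ⟨(0, 0, 1), by simp [val]⟩
  set n := (Cfsg.Agent.AutPSL.Roots.unitri (n := 3) (F := F)).index
  have hle : σ.ker ≤ S := by
    intro z hz
    have hsplit : z = (z ^ n) ^ n * ((z ^ 4) ^ (m * m + m))⁻¹ := by
      rw [eq_mul_inv_iff_mul_eq, ← pow_mul, ← pow_mul, hm,
        show (2 * m + 1) * (2 * m + 1) = 4 * (m * m + m) + 1 by ring, pow_succ']
    rw [hsplit]
    refine mul_mem (pow_mem (hgen S e1 e2 _ (pow_mem hz _) ?_) _) (inv_mem (pow_mem ?_ _))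
    · rw [← pow_mul]; exact hexp _ hz
    · exact (Subgroup.zpowers_le.2 e0) (hodd _ (pow_mem hz _)
        (by rw [← pow_mul, mul_comm]; exact hexp _ hz))
  refine (Subgroup.card_le_of_le hle).trans ?_
  refine (Finite.card_range_le val).trans ?_
  simp

/-- A cover: a perfect central extension with kernel of order forty-eight. -/
structure IsCover {X : Type w} [Group X] (σ : X →* PSL3) : Prop where
  surjective : Function.Surjective σ
  central : σ.ker ≤ Subgroup.center X
  perfect : commutator X = ⊤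
  card_ker : Nat.card σ.ker = 48

theorem exists_isCover (hF : Fintype.card F = 4) :
    ∃ (X : Type u) (_ : Group X) (_ : Finite X) (σ : X →* PSL3), IsCover σ := by
  haveI : CharP F 2 := charP_of_card_eq_prime_pow (f := 2) (by rw [hF]; norm_num)
  obtain ⟨X, _, _, σ, hs, ⟨e⟩⟩ := exists_cover hF
  exact ⟨X, inferInstance, inferInstance, σ, hs.1, hs.2.1, stem_perfect hs,
    (Nat.card_congr e.toEquiv).trans (by simp)⟩

/-- Two maps of a perfect group agreeing modulo a central subgroup are equal. -/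
theorem hom_ext_central {X : Type w} [Group X] {M : Type v} [Group M] {L : Type*} [Group L]
    (hX : commutator X = ⊤) {φ : M →* L} (hc : φ.ker ≤ Subgroup.center M) {p q : X →* M}
    (h : φ.comp p = φ.comp q) : p = q := by
  refine MonoidHom.eq_of_eqOn_top ?_
  rw [← hX, commutator_eq_closure]
  refine MonoidHom.eqOn_closure ?_
  rintro _ ⟨a, b, rfl⟩
  rw [map_commutatorElement, map_commutatorElement]
  exact Transfer.SplitLifts.comm_congr hc (DFunLike.congr_fun h a) (DFunLike.congr_fun h b)

variable {X : Type w} [Group X] [Finite X] {σ : X →* Matrix.ProjectiveSpecialLinearGroup (Fin 3) F}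

/-- The cover maps onto every finite perfect central extension, compatibly. -/
theorem IsCover.exists_hom (hF : Fintype.card F = 4) (hσ : IsCover σ) {M : Type v} [Group M] [Finite M]
    {φ : M →* Matrix.ProjectiveSpecialLinearGroup (Fin 3) F} (hsur : Function.Surjective φ)
    (hc : φ.ker ≤ Subgroup.center M) (hM : commutator M = ⊤) :
    ∃ p : X →* M, Function.Surjective p ∧ φ.comp p = σ := by
  let P : Subgroup (X × M) := (σ.comp (MonoidHom.fst X M)).eqLocus (φ.comp (MonoidHom.snd X M))
  let τ : P →* Matrix.ProjectiveSpecialLinearGroup (Fin 3) F := (σ.comp (MonoidHom.fst X M)).comp P.subtype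
  have hmem : ∀ p : P, τ p = φ (p : X × M).2 := fun p => p.2
  have hτ : Function.Surjective τ := fun l => by
    obtain ⟨x, hx⟩ := hσ.surjective l
    obtain ⟨m, hm⟩ := hsur l
    exact ⟨⟨(x, m), hx.trans hm.symm⟩, hx⟩
  have hτc : τ.ker ≤ Subgroup.center P := fun p hp => Subgroup.mem_center_iff.2 fun g =>
    Subtype.ext (Prod.ext (Subgroup.mem_center_iff.1 (hσ.central hp) _)
      (Subgroup.mem_center_iff.1 (hc ((hmem p).symm.trans hp)) _))
  obtain ⟨hD1, hD2⟩ := perfect_derived hτ hτc
  let D : Subgroup P := commutator P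
  let τD : D →* Matrix.ProjectiveSpecialLinearGroup (Fin 3) F := τ.comp D.subtype
  have hτD : Function.Surjective τD := fun l => by
    obtain ⟨p, hp, e⟩ := hD1.ge (Subgroup.mem_top l)
    exact ⟨⟨p, hp⟩, e⟩
  have hτDc : τD.ker ≤ Subgroup.center D := fun p hp => Subgroup.mem_center_iff.2 fun g =>
    Subtype.ext (Subgroup.mem_center_iff.1 (hτc (show (p : P) ∈ τ.ker from hp)) g)
  haveI : Finite P := inferInstance
  have hle := card_ker_le hF (σ := τD) ⟨hτD, hτDc, fun x _ => hD2 ▸ Subgroup.mem_top x⟩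
  let π₁ : D →* X := (MonoidHom.fst X M).comp (P.subtype.comp D.subtype)
  have hfst : Function.Surjective π₁ := by
    have : ((MonoidHom.fst X M).comp P.subtype).range = ⊤ := by
      refine MonoidHom.range_eq_top.2 fun x => ?_
      obtain ⟨m, hm⟩ := hsur (σ x)
      exact ⟨⟨(x, m), hm.symm⟩, rfl⟩
    rw [← MonoidHom.range_eq_top, show π₁ = ((MonoidHom.fst X M).comp P.subtype).comp D.subtype from rfl,
      MonoidHom.range_comp, Subgroup.range_subtype, show D = commutator P from rfl, map_commutator_eq, this,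
      ← commutator_def, hσ.perfect]
  have hcard : Nat.card D ≤ Nat.card X := by
    have h1 := Subgroup.card_eq_card_quotient_mul_card_subgroup τD.ker
    have h2 := Subgroup.card_eq_card_quotient_mul_card_subgroup σ.ker
    rw [Nat.card_congr (QuotientGroup.quotientKerEquivOfSurjective τD hτD).toEquiv] at h1
    rw [Nat.card_congr (QuotientGroup.quotientKerEquivOfSurjective σ hσ.surjective).toEquiv, hσ.card_ker] at h2
    rw [h1, h2]
    exact Nat.mul_le_mul_left _ hle
  let e : D ≃* X := MulEquiv.ofBijective π₁ ((Nat.bijective_iff_surjective_and_card π₁).2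
    ⟨hfst, le_antisymm hcard (Nat.card_le_card_of_surjective π₁ hfst)⟩)
  let π₂ : D →* M := (MonoidHom.snd X M).comp (P.subtype.comp D.subtype)
  have hsnd : Function.Surjective π₂ := by
    have : ((MonoidHom.snd X M).comp P.subtype).range = ⊤ := by
      refine MonoidHom.range_eq_top.2 fun m => ?_
      obtain ⟨x, hx⟩ := hσ.surjective (φ m)
      exact ⟨⟨(x, m), hx⟩, rfl⟩
    rw [← MonoidHom.range_eq_top, show π₂ = ((MonoidHom.snd X M).comp P.subtype).comp D.subtype from rfl,
      MonoidHom.range_comp, Subgroup.range_subtype, show D = commutator P from rfl, map_commutator_eq, this,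
      ← commutator_def, hM]
  refine ⟨π₂.comp e.symm.toMonoidHom, hsnd.comp e.symm.surjective, MonoidHom.ext fun x => ?_⟩
  show φ (π₂ (e.symm x)) = σ x
  conv_rhs => rw [← e.apply_symm_apply x]
  exact ((e.symm x : P).2).symm

/-- An automorphism of `L₃(4)` lifts to the cover. -/
theorem IsCover.exists_lift (hF : Fintype.card F = 4) (hσ : IsCover σ)
    (a : MulAut (Matrix.ProjectiveSpecialLinearGroup (Fin 3) F)) : ∃ b : MulAut X, ∀ x, σ (b x) = a (σ x) := by
  have hker : (a.toMonoidHom.comp σ).ker = σ.ker := by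
    ext x; simp
  obtain ⟨p, hp, e⟩ := hσ.exists_hom hF (φ := a.toMonoidHom.comp σ) (a.surjective.comp hσ.surjective)
    (hker ▸ hσ.central) hσ.perfect
  refine ⟨(MulEquiv.ofBijective p (Finite.surjective_iff_bijective.1 hp)).symm, fun x => ?_⟩
  obtain ⟨y, rfl⟩ := hp x
  rw [show (MulEquiv.ofBijective p (Finite.surjective_iff_bijective.1 hp)).symm (p y) = y from
    (MulEquiv.ofBijective p (Finite.surjective_iff_bijective.1 hp)).symm_apply_apply y]
  exact (DFunLike.congr_fun e y).symm

end Cfsg.Agent.L34Univ
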