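import Cfsg.Agent.Lib.L34Univ.Reps
import Cfsg.Agent.Lib.L34Univ.Universal
import Cfsg.Agent.Lib.AutPSL.Out

/-!
An outer automorphism of a perfect central extension of `L₃(4)` with inner square is, after a change of
coordinates by a diagonal automorphism and an inner automorphism, the field, the graph or the graph-field one.
-/

set_option autoImplicit false
set_option linter.unusedSectionVars false

namespace Cfsg.Agent.L34Univ

open Matrix Cfsg.Agent.L34Mult Cfsg.Agent.AutPSL.Basic Cfsg.Agent.AutPSL.Main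

universe u v

variable {F : Type u} [Field F] [Fintype F] (W : Frame F)

local notation "SL3" => Matrix.SpecialLinearGroup (Fin 3) F
local notation "PSL3" => Matrix.ProjectiveSpecialLinearGroup (Fin 3) F

theorem gAut_toGL (s : SL3) :
    (gAut (Matrix.SpecialLinearGroup.toGL s) : MulAut PSL3) = MulAut.conj (QuotientGroup.mk s : PSL3) := by
  refine MulEquiv.ext fun x => ?_
  induction x using QuotientGroup.induction_on with | H t => ?_
  rw [MulAut.conj_apply, ← QuotientGroup.mk_inv, ← QuotientGroup.mk_mul, ← QuotientGroup.mk_mul]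
  exact congrArg QuotientGroup.mk (Subtype.ext rfl)

theorem gAut_of_det {g : GL (Fin 3) F} (h : (g : Matrix (Fin 3) (Fin 3) F).det = 1) :
    ∃ n : PSL3, (gAut g : MulAut PSL3) = MulAut.conj n := by
  let s : SL3 := ⟨(g : Matrix (Fin 3) (Fin 3) F), h⟩
  exact ⟨QuotientGroup.mk s, by rw [← gAut_toGL, show Matrix.SpecialLinearGroup.toGL s = g from Units.ext rfl]⟩

theorem diagW_det : (diagW W : Matrix (Fin 3) (Fin 3) F).det = W.w := by simp [diagW, Matrix.det_fin_three]

/-- Modulo the inner ones, the inner-diagonal automorphisms are the powers of the diagonal one. -/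
theorem gAut_cases (g : GL (Fin 3) F) :
    ∃ (i : ℕ) (n : PSL3), (gAut g : MulAut PSL3) = MulAut.conj n * autDiag W ^ i := by
  obtain ⟨i, hi⟩ : ∃ i : ℕ, (g : Matrix (Fin 3) (Fin 3) F).det = W.w ^ i := by
    have hne : (g : Matrix (Fin 3) (Fin 3) F).det ≠ 0 := ((Matrix.isUnit_iff_isUnit_det _).1 g.isUnit).ne_zero
    rcases W.cases (g : Matrix (Fin 3) (Fin 3) F).det with h | h | h | h
    · exact absurd h hne
    · exact ⟨0, by rw [h, pow_zero]⟩
    · exact ⟨1, by rw [h, pow_one]⟩
    · exact ⟨2, by rw [h, pow_two, W.sq]⟩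
  have hdet : ((g * (diagW W ^ i)⁻¹ : GL (Fin 3) F) : Matrix (Fin 3) (Fin 3) F).det = 1 := by
    have h1 : ((g * (diagW W ^ i)⁻¹ : GL (Fin 3) F) : Matrix (Fin 3) (Fin 3) F).det *
        ((diagW W ^ i : GL (Fin 3) F) : Matrix (Fin 3) (Fin 3) F).det = W.w ^ i := by
      rw [← Matrix.det_mul, ← Units.val_mul, inv_mul_cancel_right, hi]
    rw [Units.val_pow_eq_pow_val, Matrix.det_pow, diagW_det] at h1
    exact (mul_eq_right₀ (pow_ne_zero i W.ne_zero)).1 h1
  obtain ⟨n, hn⟩ := gAut_of_det hdet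
  refine ⟨i, n, ?_⟩
  rw [← hn, autDiag, ← map_pow, ← map_mul, inv_mul_cancel_right]

include W in
/-- The field automorphisms are the identity and the Frobenius. -/
theorem field_cases (σ : F ≃+* F) : σ = 1 ∨ σ = frobRing W := by
  have h1 : σ W.w * σ W.w = σ W.w + 1 := by rw [← map_mul, W.sq, map_add, map_one]
  have hv : ∀ τ : F ≃+* F, τ W.w = σ W.w → σ = τ := fun τ h => RingEquiv.ext fun x => by
    rcases W.cases x with rfl | rfl | rfl | rfl <;> simp [map_add, h]
  rcases W.cases (σ W.w) with h | h | h | h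
  · rw [h] at h1; simp at h1
  · rw [h] at h1; exact absurd (by linear_combination -h1) (one_ne_zero (α := F))
  · exact Or.inl (hv 1 h.symm)
  · exact Or.inr (hv _ (by rw [frobRing_apply, W.sq, h]))

theorem frobRing_sq : frobRing W * frobRing W = 1 := RingEquiv.ext fun x => by
  show x * x * (x * x) = x
  rw [show x * x * (x * x) = x ^ 4 by ring, W.pow_four]

theorem dual_antidiag : (AutPSL.Main.dual (antidiag : GL (Fin 3) F)) = antidiag := by
  refine Units.ext ?_
  ext i j
  fin_cases i <;> fin_cases j <;> rfl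

theorem autGraph_sq : (autGraph : MulAut PSL3) * autGraph = 1 := by
  rw [autGraph, mul_assoc, ← mul_assoc iota, iota_mul_gAut, dual_antidiag, mul_assoc, iota_mul_self, mul_one,
    ← map_mul, show antidiag * antidiag = (1 : GL (Fin 3) F) from Units.ext (antidiag (F := F)).val_inv, map_one]

theorem autFrob_sq : (autFrob W : MulAut PSL3) * autFrob W = 1 := by
  rw [autFrob, ← map_mul, frobRing_sq, map_one]

theorem autDiag_cube : (autDiag W : MulAut PSL3) ^ 3 = 1 := by
  have e : W.w * W.w * W.w = 1 := by linear_combination (W.w + 1) * W.sq + W.w * W.two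
  rw [autDiag, ← map_pow, show diagW W ^ 3 = 1 from Units.ext (by
    rw [Units.val_pow_eq_pow_val, pow_succ, pow_two]
    ext i j
    fin_cases i <;> fin_cases j <;> simp [diagW, Matrix.mul_apply, Fin.sum_univ_three, e]), map_one]

theorem autFrob_diag : (autFrob W : MulAut PSL3) * autDiag W = autDiag W ^ 2 * autFrob W := by
  rw [autFrob, autDiag, fAut_mul_gAut, ← map_pow]
  congr 2
  refine Units.ext ?_
  rw [fieldGL_coe, Units.val_pow_eq_pow_val, pow_two]
  ext i j
  fin_cases i <;> fin_cases j <;> simp [diagW, Matrix.mul_apply, Fin.sum_univ_three, frobRing_apply]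

theorem autFrob_graph : (autFrob W : MulAut PSL3) * autGraph = autGraph * autFrob W := by
  rw [autFrob, autGraph, ← mul_assoc, fAut_mul_gAut, mul_assoc, ← iota_mul_fAut, ← mul_assoc]
  congr 3
  refine Units.ext ?_
  rw [fieldGL_coe]
  ext i j
  fin_cases i <;> fin_cases j <;> simp [antidiag]

theorem autGraph_diag :
    ∃ n : PSL3, (autGraph : MulAut PSL3) * autDiag W = MulAut.conj n * (autDiag W ^ 2 * autGraph) := by
  have hh : ∀ g : GL (Fin 3) F, (autGraph : MulAut PSL3) * gAut g =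
      gAut (antidiag * AutPSL.Main.dual g * antidiag⁻¹) * autGraph := fun g => by
    rw [autGraph, mul_assoc, iota_mul_gAut, ← mul_assoc, ← mul_assoc, map_mul, map_mul, map_inv]
    group
  have hdet : ((antidiag * AutPSL.Main.dual (diagW W) * antidiag⁻¹ * (diagW W ^ 2)⁻¹ : GL (Fin 3) F) :
      Matrix (Fin 3) (Fin 3) F).det = 1 := by
    have e : W.w * W.w * W.w = 1 := by linear_combination (W.w + 1) * W.sq + W.w * W.two
    have hu : (antidiag * AutPSL.Main.dual (diagW W) * antidiag⁻¹ * (diagW W ^ 2)⁻¹ : GL (Fin 3) F) =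
        antidiag * AutPSL.Main.dual (diagW W) * antidiag⁻¹ * diagW W := by
      congr 1
      rw [inv_eq_iff_mul_eq_one, ← pow_succ]
      refine Units.ext ?_
      rw [Units.val_pow_eq_pow_val, pow_succ, pow_two]
      ext i j
      fin_cases i <;> fin_cases j <;> simp [diagW, Matrix.mul_apply, Fin.sum_univ_three, e]
    rw [hu, Units.val_mul, Units.val_mul, Units.val_mul, Matrix.det_mul, Matrix.det_mul, Matrix.det_mul,
      diagW_det]
    show (antidiag : GL (Fin 3) F).val.det * ((diagW W)⁻¹ : GL (Fin 3) F).valᵀ.det * (antidiag : GL (Fin 3) F).val.det *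
      W.w = 1
    rw [Matrix.det_transpose]
    show (!![0, 0, 1; 0, 1, 0; 1, 0, 0] : Matrix (Fin 3) (Fin 3) F).det *
      (!![W.w + 1, 0, 0; 0, 1, 0; 0, 0, 1] : Matrix (Fin 3) (Fin 3) F).det *
      (!![0, 0, 1; 0, 1, 0; 1, 0, 0] : Matrix (Fin 3) (Fin 3) F).det * W.w = 1
    simp [Matrix.det_fin_three]
    linear_combination W.sq + W.w * W.two
  obtain ⟨n, hn⟩ := gAut_of_det hdet
  refine ⟨n, ?_⟩
  rw [autDiag, hh, ← hn, ← map_pow, ← mul_assoc, ← map_mul, inv_mul_cancel_right]

/-- Every automorphism, modulo the inner ones. -/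
theorem aut_cases (β : MulAut PSL3) : ∃ (n : PSL3) (i j k : ℕ),
    β = MulAut.conj n * (autDiag W ^ i * autFrob W ^ j * autGraph ^ k) ∧ j < 2 ∧ k < 2 := by
  obtain ⟨g, σ, γ, hγ, rfl⟩ := AutPSL.Main.exists_decomp (by norm_num) β
  obtain ⟨j, hj, hj'⟩ : ∃ j, j < 2 ∧ (fAut σ : MulAut PSL3) = autFrob W ^ j := by
    rcases field_cases W σ with rfl | rfl
    · exact ⟨0, by norm_num, by rw [map_one, pow_zero]⟩
    · exact ⟨1, by norm_num, by rw [pow_one, autFrob]⟩
  rcases hγ with rfl | rfl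
  · obtain ⟨i, n, hn⟩ := gAut_cases W g
    exact ⟨n, i, j, 0, by rw [hn, hj', pow_zero, mul_one, mul_one, mul_assoc], hj, by norm_num⟩
  · obtain ⟨i, n, hn⟩ := gAut_cases W (g * fieldGL σ antidiag⁻¹)
    refine ⟨n, i, j, 1, ?_, hj, by norm_num⟩
    rw [← mul_assoc, ← mul_assoc, ← hn, ← hj', map_mul, pow_one, mul_assoc (gAut g) (gAut _) (fAut σ),
      ← fAut_mul_gAut, autGraph, map_inv]
    group

/-- The three representatives. -/
def IsRep (ρ : MulAut PSL3) : Prop :=
  ρ = autFrob W ∨ ρ = autGraph ∨ ρ = autGraph * autFrob W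

/-- An outer automorphism with inner square is one of the three up to the diagonal and inner ones. -/
theorem exists_rep {β : MulAut PSL3} (hout : ∀ n : PSL3, β ≠ MulAut.conj n)
    (hsq : ∃ n : PSL3, β * β = MulAut.conj n) :
    ∃ (m : ℕ) (n : PSL3) (ρ : MulAut PSL3), IsRep W ρ ∧
      autDiag W ^ m * β * (autDiag W ^ m)⁻¹ = MulAut.conj n * ρ := by
  let q := QuotientGroup.mk' (MulAut.conj : PSL3 →* MulAut PSL3).range
  have hq : ∀ {a b : MulAut PSL3}, q a = q b → ∃ n, a = MulAut.conj n * b := fun {a b} h => by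
    obtain ⟨n, hn⟩ := (QuotientGroup.eq_iff_div_mem).1 h
    exact ⟨n, by rw [hn, div_mul_cancel]⟩
  have hi : ∀ n, q (MulAut.conj n) = 1 := fun n => (QuotientGroup.eq_one_iff _).2 ⟨n, rfl⟩
  set D := q (autDiag W)
  set P := q (autFrob W)
  set R := q autGraph
  have hD : D ^ 3 = 1 := by rw [← map_pow, autDiag_cube, map_one]
  have hP : P * P = 1 := by rw [← map_mul, autFrob_sq, map_one]
  have hR : R * R = 1 := by rw [← map_mul, autGraph_sq, map_one]
  have hPD : P * D = D ^ 2 * P := by rw [← map_mul, autFrob_diag, map_mul, map_pow]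
  have hPR : P * R = R * P := by rw [← map_mul, autFrob_graph, map_mul]
  have hRD : R * D = D ^ 2 * R := by
    obtain ⟨n, hn⟩ := autGraph_diag W
    rw [← map_mul, hn, map_mul, hi, one_mul, map_mul, map_pow]
  have inv_pow : ∀ {S : MulAut PSL3 ⧸ (MulAut.conj : PSL3 →* MulAut PSL3).range}, S * D = D ^ 2 * S →
      ∀ i, S * D ^ i = D ^ (2 * i) * S := fun {S} h i => by
    induction i with
    | zero => simp
    | succ i ih => rw [pow_succ, ← mul_assoc, ih, mul_assoc, h, ← mul_assoc, ← pow_add]; ring_nf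
  -- conjugating by a power of the diagonal one
  have conjD : ∀ {S : MulAut PSL3 ⧸ (MulAut.conj : PSL3 →* MulAut PSL3).range}, S * D = D ^ 2 * S →
      ∀ i, D ^ i * (D ^ i * S) * (D ^ i)⁻¹ = S := fun {S} h i => by
    have e : (D ^ i) ^ 3 = 1 := by rw [← pow_mul, mul_comm, pow_mul, hD, one_pow]
    rw [mul_inv_eq_iff_eq_mul, inv_pow h i, ← mul_assoc]
    rw [show D ^ (2 * i) = D ^ i * D ^ i by rw [two_mul, pow_add]]
  obtain ⟨n₀, i, j, k, rfl, hj, hk⟩ := aut_cases W β
  obtain ⟨n₁, hn₁⟩ := hsq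
  have hsq' := congrArg q hn₁
  rw [map_mul, map_mul, hi, hi, one_mul, map_mul, map_mul, map_pow, map_pow, map_pow] at hsq'
  have concl : ∀ (m : ℕ) (ρ : MulAut PSL3), IsRep W ρ → D ^ m * (D ^ i * P ^ j * R ^ k) * (D ^ m)⁻¹ = q ρ →
      ∃ (m : ℕ) (n : PSL3) (ρ : MulAut PSL3), IsRep W ρ ∧
        autDiag W ^ m * (MulAut.conj n₀ * (autDiag W ^ i * autFrob W ^ j * autGraph ^ k)) * (autDiag W ^ m)⁻¹ =
          MulAut.conj n * ρ := fun m ρ hρ h => by
    obtain ⟨n, hn⟩ := hq (a := autDiag W ^ m *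
      (MulAut.conj n₀ * (autDiag W ^ i * autFrob W ^ j * autGraph ^ k)) * (autDiag W ^ m)⁻¹) (b := ρ) (by
        rw [← h]
        simp only [map_mul, map_inv, map_pow, hi, one_mul]
        rfl)
    exact ⟨m, n, ρ, hρ, hn⟩
  interval_cases j <;> interval_cases k
  · exfalso
    simp only [pow_zero, mul_one, ← pow_add] at hsq'
    have h1 : D ^ i = 1 := by
      calc D ^ i = (D ^ 3) ^ i * ((D ^ (i + i))⁻¹) := by
            rw [← pow_mul, eq_mul_inv_iff_mul_eq, ← pow_add]; ring_nf
        _ = 1 := by rw [hD, one_pow, hsq', inv_one, one_mul]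
    obtain ⟨n, hn⟩ := hq (a := autDiag W ^ i) (b := 1) (by rw [map_pow, map_one]; exact h1)
    exact hout (n₀ * n) (by rw [map_mul, hn]; simp)
  · exact concl i _ (Or.inr (Or.inl rfl)) (by rw [pow_zero, mul_one, pow_one]; exact conjD hRD i)
  · exact concl i _ (Or.inl rfl) (by rw [pow_zero, mul_one, pow_one]; exact conjD hPD i)
  · have hc : R * P * D = D * (R * P) := by
      rw [mul_assoc, hPD, ← mul_assoc, inv_pow hRD 2 |>.trans (by
        rw [show D ^ (2 * 2) = D from by rw [pow_succ, hD, one_mul]]), mul_assoc]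
    have h1 : D ^ i = 1 := by
      have hci : (R * P) * D ^ i = D ^ i * (R * P) := (Commute.pow_right hc i).eq
      rw [pow_one, pow_one, mul_assoc (D ^ i), hPR, mul_assoc (D ^ i) (R * P), ← mul_assoc (R * P), hci,
        mul_assoc (D ^ i) (R * P), ← mul_assoc (D ^ i) (D ^ i),
        show R * P * (R * P) = 1 by rw [mul_assoc, ← mul_assoc P, hPR, mul_assoc, hP, mul_one, hR], mul_one,
        ← pow_add] at hsq'
      calc D ^ i = (D ^ 3) ^ i * ((D ^ (i + i))⁻¹) := by
            rw [← pow_mul, eq_mul_inv_iff_mul_eq, ← pow_add]; ring_nf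
        _ = 1 := by rw [hD, one_pow, hsq', inv_one, one_mul]
    exact concl 0 _ (Or.inr (Or.inr rfl)) (by
      rw [pow_zero, one_mul, inv_one, mul_one, h1, one_mul, pow_one, pow_one, hPR, map_mul])

variable {W} {M : Type v} [Group M] {φ : M →* Matrix.ProjectiveSpecialLinearGroup (Fin 3) F}

/-- An outer automorphism of a perfect central extension with inner square is normalised. -/
theorem exists_normalised (hs : Function.Surjective φ) (hc : φ.ker ≤ Subgroup.center M) (hM : commutator M = ⊤)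
    (b : MulAut M) (hout : ∀ m : M, b ≠ MulAut.conj m) (hsq : ∃ m : M, b * b = MulAut.conj m) :
    ∃ (i : ℕ) (m : M) (ρ : MulAut PSL3), IsRep W ρ ∧
      ∀ x, (autDiag W ^ i) (φ (m * b x * m⁻¹)) = ρ ((autDiag W ^ i) (φ x)) := by
  have hk : ∀ x, φ x = 1 ↔ x ∈ Subgroup.center M := L34Mult.ker_eq_center hs hc
  have hbk : ∀ x, φ x = 1 → φ (b x) = 1 := fun x hx => (hk _).2 (Subgroup.mem_center_iff.2 fun g => by
    obtain ⟨g, rfl⟩ := b.surjective g
    rw [← map_mul, ← map_mul, Subgroup.mem_center_iff.1 ((hk x).1 hx) g])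
  let lf : PSL3 → M := Function.surjInv hs
  have hlf : ∀ l, φ (lf l) = l := Function.surjInv_eq hs
  have hβ : ∀ x, φ (b x) = φ (b (lf (φ x))) := fun x => by
    have h := hbk (x⁻¹ * lf (φ x)) (by rw [map_mul, map_inv, hlf, inv_mul_cancel])
    rw [map_mul, map_inv, map_mul, map_inv, inv_mul_eq_one] at h
    exact h
  let f : PSL3 →* PSL3 := MonoidHom.mk' (fun l => φ (b (lf l))) fun p r => by
    rw [← map_mul, ← map_mul, hβ (lf p * lf r), map_mul φ (lf p), hlf, hlf]
  have hf : ∀ x, f (φ x) = φ (b x) := fun x => (hβ x).symm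
  have hfs : Function.Surjective f := fun l => ⟨φ (b.symm (lf l)), by rw [hf, b.apply_symm_apply, hlf]⟩
  let β : MulAut PSL3 := MulEquiv.ofBijective f (Finite.surjective_iff_bijective.1 hfs)
  have hβf : ∀ x, β (φ x) = φ (b x) := hf
  have houtβ : ∀ n : PSL3, β ≠ MulAut.conj n := fun n e => hout (lf n) (MulEquiv.toMonoidHom_injective
    (hom_ext_central (p := b.toMonoidHom) (q := (MulAut.conj (lf n)).toMonoidHom) hM hc (MonoidHom.ext fun x => by
      show φ (b x) = φ (lf n * x * (lf n)⁻¹)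
      rw [← hβf, e, MulAut.conj_apply, map_mul, map_mul, map_inv, hlf])))
  obtain ⟨m₁, hm₁⟩ := hsq
  obtain ⟨i, n, ρ, hρ, e⟩ := exists_rep W houtβ ⟨φ m₁, MulEquiv.ext fun l => by
    obtain ⟨x, rfl⟩ := hs l
    rw [MulAut.mul_apply, hβf, hβf, ← MulAut.mul_apply, hm₁, MulAut.conj_apply, MulAut.conj_apply, map_mul,
      map_mul, map_inv]⟩
  refine ⟨i, lf ((autDiag W ^ i).symm n⁻¹), ρ, hρ, fun x => ?_⟩
  have h1 := congrArg (fun a : MulAut PSL3 => a ((autDiag W ^ i) (φ x))) e
  simp only [MulAut.mul_apply, MulAut.conj_apply, MulAut.inv_apply_self, hβf] at h1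
  simp only [map_mul φ, map_inv, hlf, map_mul, MulEquiv.apply_symm_apply, h1]
  group

end Cfsg.Agent.L34Univ
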