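import Cfsg.Agent.Lib.L34Univ.Roots

/-!
The relations of the lifted root groups: all commutators are read from one function on the field.
-/

set_option autoImplicit false
set_option linter.unusedSectionVars false

namespace Cfsg.Agent.L34Univ

open Matrix Cfsg.Agent.L34Mult Cfsg.Agent.Perm.L34Cover
open scoped commutatorElement

universe u v

variable {F : Type u} [Field F] [Fintype F] {M : Type v} [Group M] {W : Frame F}
  {φ : M →* Matrix.ProjectiveSpecialLinearGroup (Fin 3) F} (D : Ctx W φ)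
include D

theorem Ctx.x_add (a b : F) : D.x (a + b) = D.x a * D.x b := D.lift_add _ a b

theorem Ctx.y_add (a b : F) : D.y (a + b) = D.y a * D.y b := D.lift_add _ a b

theorem Ctx.z_add (a b : F) : D.z (a + b) = D.z a * D.z b := D.lift_add _ a b

theorem Ctx.x_sq (a : F) : D.x a * D.x a = 1 := D.lift_sq _ a

theorem Ctx.y_sq (a : F) : D.y a * D.y a = 1 := D.lift_sq _ a

theorem Ctx.z_sq (a : F) : D.z a * D.z a = 1 := D.lift_sq _ a

theorem Ctx.conj_x (a : F) : D.t * D.x a * D.t⁻¹ = D.x ((W.w + 1) * a) := D.conj_lift _ a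

theorem Ctx.conj_y (a : F) : D.t * D.y a * D.t⁻¹ = D.y ((W.w + 1) * a) := D.conj_lift _ a

theorem Ctx.conj_z (a : F) : D.t * D.z a * D.t⁻¹ = D.z (W.w * a) :=
  (D.conj_lift (lz W) a).trans (congrArg D.z (by show (W.w + 1 + 1) * a = _; linear_combination a * W.two))

/-- Commutators of lifts of commuting elements are central. -/
theorem Ctx.map_comm_eq_one {g h : M} (e : Commute (φ g) (φ h)) : φ ⁅g, h⁆ = 1 := by
  rw [map_commutatorElement, commutatorElement_eq_one_iff_commute]; exact e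

/-- The values of commutators of the first line with the long one. -/
noncomputable def Ctx.psi (v : F) : M := ⁅D.x 1, D.z v⁆

theorem Ctx.map_comm_xz (a c : F) : φ ⁅D.x a, D.z c⁆ = 1 :=
  D.map_comm_eq_one (by rw [D.map_x, D.map_z]; exact (commute_p12_p13 a c).symm)

theorem Ctx.map_comm_yz (b c : F) : φ ⁅D.y b, D.z c⁆ = 1 :=
  D.map_comm_eq_one (by rw [D.map_y, D.map_z]; exact (commute_p23_p13 b c).symm)

theorem Ctx.psi_map (v : F) : φ (D.psi v) = 1 := D.map_comm_xz 1 v

theorem Ctx.psi_commute (v : F) (g : M) : Commute g (D.psi v) := D.central' (D.psi_map v) g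

theorem Ctx.psi_add (v v' : F) : D.psi (v + v') = D.psi v * D.psi v' := by
  rw [Ctx.psi, D.z_add,
    show ⁅D.x 1, D.z v * D.z v'⁆ = ⁅D.x 1, D.z v⁆ * (D.z v * ⁅D.x 1, D.z v'⁆ * (D.z v)⁻¹) by
      simp only [commutatorElement_def]; group]
  rw [show ⁅D.x 1, D.z v'⁆ = D.psi v' from rfl, (D.psi_commute v' (D.z v)).eq, mul_inv_cancel_right]
  rfl

theorem Ctx.psi_zero : D.psi 0 = 1 := by
  have h := D.psi_add 0 0
  rw [add_zero] at h
  exact left_eq_mul.1 h

theorem Ctx.psi_sq (v : F) : D.psi v * D.psi v = 1 := by rw [← D.psi_add, W.add_self, D.psi_zero]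

theorem Ctx.torus_invariant {g h g' h' : M} (hg : φ ⁅g, h⁆ = 1) (e1 : D.t * g * D.t⁻¹ = g')
    (e2 : D.t * h * D.t⁻¹ = h') : ⁅g', h'⁆ = ⁅g, h⁆ := by
  rw [← e1, ← e2, show ⁅D.t * g * D.t⁻¹, D.t * h * D.t⁻¹⁆ = D.t * ⁅g, h⁆ * D.t⁻¹ by
    simp only [commutatorElement_def]; group, (D.central' hg D.t).eq, mul_inv_cancel_right]

theorem Ctx.comm_xz (a c : F) : ⁅D.x a, D.z c⁆ = D.psi (a * c) := by
  have inv : ∀ a c, ⁅D.x ((W.w + 1) * a), D.z (W.w * c)⁆ = ⁅D.x a, D.z c⁆ := fun a c =>
    D.torus_invariant (D.map_comm_xz a c) (D.conj_x a) (D.conj_z c)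
  rcases W.cases a with rfl | rfl | rfl | rfl
  · rw [zero_mul, D.psi_zero, show D.x 0 = 1 from D.lift_zero _, commutatorElement_one_left]
  · rw [one_mul]; rfl
  · have h1 := inv (W.w + 1) ((W.w + 1) * c)
    have h2 := inv 1 (W.w * c)
    rw [show (W.w + 1) * (W.w + 1) = W.w by linear_combination W.sq + (W.w + 1) * W.two,
      show W.w * ((W.w + 1) * c) = c by linear_combination c * W.sq + c * W.w * W.two] at h1
    rw [mul_one, show W.w * (W.w * c) = (W.w + 1) * c by linear_combination c * W.sq] at h2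
    exact h1.trans h2
  · have h := inv 1 ((W.w + 1) * c)
    rw [mul_one, show W.w * ((W.w + 1) * c) = c by linear_combination c * W.sq + c * W.w * W.two] at h
    exact h

/-- The values of commutators of the second line with the long one, and of the two short lines. -/
noncomputable def Ctx.phi2 (v : F) : M := ⁅D.y 1, D.z v⁆

theorem Ctx.phi2_commute (v : F) (g : M) : Commute g (D.phi2 v) := D.central' (D.map_comm_yz 1 v) g

theorem Ctx.comm_yz' (b c : F) : ⁅D.y b, D.z c⁆ = D.phi2 (b * c) := by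
  have inv : ∀ a c, ⁅D.y ((W.w + 1) * a), D.z (W.w * c)⁆ = ⁅D.y a, D.z c⁆ := fun a c =>
    D.torus_invariant (D.map_comm_yz a c) (D.conj_y a) (D.conj_z c)
  rcases W.cases b with rfl | rfl | rfl | rfl
  · rw [zero_mul, show D.y 0 = 1 from D.lift_zero _, commutatorElement_one_left, Ctx.phi2,
      show D.z 0 = 1 from D.lift_zero _, commutatorElement_one_right]
  · rw [one_mul]; rfl
  · have h1 := inv (W.w + 1) ((W.w + 1) * c)
    have h2 := inv 1 (W.w * c)
    rw [show (W.w + 1) * (W.w + 1) = W.w by linear_combination W.sq + (W.w + 1) * W.two,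
      show W.w * ((W.w + 1) * c) = c by linear_combination c * W.sq + c * W.w * W.two] at h1
    rw [mul_one, show W.w * (W.w * c) = (W.w + 1) * c by linear_combination c * W.sq] at h2
    exact h1.trans h2
  · have h := inv 1 ((W.w + 1) * c)
    rw [mul_one, show W.w * ((W.w + 1) * c) = c by linear_combination c * W.sq + c * W.w * W.two] at h
    exact h

/-- The central factor of the commutator of the short lines. -/
noncomputable def Ctx.kap (v : F) : M := (D.z v)⁻¹ * ⁅D.x 1, D.y v⁆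

theorem Ctx.map_comm_xy (a b : F) : φ ((D.z (a * b))⁻¹ * ⁅D.x a, D.y b⁆) = 1 := by
  rw [map_mul, map_inv, map_commutatorElement, D.map_z, D.map_x, D.map_y, comm_p12_p23, inv_mul_cancel]

theorem Ctx.kap_map (v : F) : φ (D.kap v) = 1 := by
  have h := D.map_comm_xy 1 v
  rwa [one_mul] at h

theorem Ctx.kap_commute (v : F) (g : M) : Commute g (D.kap v) := D.central' (D.kap_map v) g

theorem Ctx.comm_xy_one (v : F) : ⁅D.x 1, D.y v⁆ = D.z v * D.kap v := by
  rw [Ctx.kap, mul_inv_cancel_left]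

theorem Ctx.kap_zero : D.kap 0 = 1 := by
  rw [Ctx.kap, show D.y 0 = 1 from D.lift_zero _, show D.z 0 = 1 from D.lift_zero _, inv_one, one_mul,
    commutatorElement_one_right]

theorem Ctx.comm_xy (a b : F) : ⁅D.x a, D.y b⁆ = D.z (a * b) * D.kap (a ^ 2 * b) := by
  let K : F → F → M := fun a b => (D.z (a * b))⁻¹ * ⁅D.x a, D.y b⁆
  suffices h : K a b = D.kap (a ^ 2 * b) by
    rw [← h]; simp only [K, mul_inv_cancel_left]
  have inv : ∀ a b, K ((W.w + 1) * a) ((W.w + 1) * b) = K a b := fun a b => by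
    have hk := D.map_comm_xy a b
    simp only [K]
    rw [show (W.w + 1) * a * ((W.w + 1) * b) = W.w * (a * b) by
      linear_combination a * b * W.sq + a * b * (W.w + 1) * W.two, ← D.conj_x, ← D.conj_y, ← D.conj_z]
    rw [show (D.t * D.z (a * b) * D.t⁻¹)⁻¹ * ⁅D.t * D.x a * D.t⁻¹, D.t * D.y b * D.t⁻¹⁆ =
      D.t * ((D.z (a * b))⁻¹ * ⁅D.x a, D.y b⁆) * D.t⁻¹ by simp only [commutatorElement_def]; group,
      (D.central' hk D.t).eq, mul_inv_cancel_right]
  have h1 : ∀ v, K 1 v = D.kap v := fun v => by simp only [K, one_mul]; rfl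
  rcases W.cases a with rfl | rfl | rfl | rfl
  · simp only [K]
    rw [show D.x 0 = 1 from D.lift_zero _, commutatorElement_one_left, mul_one, zero_mul,
      show D.z 0 = 1 from D.lift_zero _, inv_one, zero_pow two_ne_zero, zero_mul, D.kap_zero]
  · rw [h1, one_pow, one_mul]
  · have e1 := inv (W.w + 1) (W.w * b)
    have e2 := inv 1 (W.w * (W.w * b))
    rw [show (W.w + 1) * (W.w + 1) = W.w by linear_combination W.sq + (W.w + 1) * W.two,
      show (W.w + 1) * (W.w * b) = b by linear_combination b * W.sq + b * W.w * W.two] at e1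
    rw [mul_one, show (W.w + 1) * (W.w * (W.w * b)) = W.w * b by
      linear_combination b * W.w * W.sq + b * W.w ^ 2 * W.two, h1] at e2
    rw [e1, e2]
    congr 1
    ring
  · have e1 := inv 1 (W.w * b)
    rw [mul_one, show (W.w + 1) * (W.w * b) = b by linear_combination b * W.sq + b * W.w * W.two, h1] at e1
    rw [e1, show (W.w + 1) ^ 2 = W.w by linear_combination W.sq + (W.w + 1) * W.two]

/-- An involution conjugates a commutator with an involution to the reversed commutator. -/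
theorem Ctx.swap_comm {g h : M} (hg : g * g = 1) (hh : h * h = 1) : g * ⁅g, h⁆ * g = ⁅h, g⁆ := by
  rw [commutatorElement_def, commutatorElement_def, inv_eq_of_mul_eq_one_right hg,
    inv_eq_of_mul_eq_one_right hh]
  calc g * (g * h * g * h) * g = g * g * h * g * h * g := by simp only [mul_assoc]
    _ = _ := by rw [hg, one_mul]

theorem Ctx.z_inv (c : F) : (D.z c)⁻¹ = D.z c := D.lift_inv _ c

theorem Ctx.conj_z_x (a c : F) : D.x a * D.z c * D.x a = D.psi (a * c) * D.z c := by
  rw [← D.comm_xz, commutatorElement_def, show (D.x a)⁻¹ = D.x a from D.lift_inv _ a, inv_mul_cancel_right]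

theorem Ctx.conj_z_y (b c : F) : D.y b * D.z c * D.y b = D.phi2 (b * c) * D.z c := by
  rw [← D.comm_yz', commutatorElement_def, show (D.y b)⁻¹ = D.y b from D.lift_inv _ b, inv_mul_cancel_right]

theorem Ctx.kap_sq (v : F) : D.kap v * D.kap v = D.psi v := by
  have h1 := D.swap_comm (D.x_sq 1) (D.y_sq v)
  rw [← commutatorElement_inv (D.x 1) (D.y v), D.comm_xy_one, ← mul_assoc, mul_assoc (D.x 1 * D.z v),
    ← (D.kap_commute v (D.x 1)).eq, ← mul_assoc, D.conj_z_x, one_mul, _root_.mul_inv_rev, D.z_inv,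
    ← (D.kap_commute v (D.z v)).inv_right.eq, ← (D.psi_commute v (D.z v)).eq, mul_assoc] at h1
  have h2 : D.psi v * D.kap v = (D.kap v)⁻¹ := mul_left_cancel h1
  calc D.kap v * D.kap v = D.psi v * D.psi v * (D.kap v * D.kap v) := by rw [D.psi_sq, one_mul]
    _ = D.psi v * (D.psi v * D.kap v * D.kap v) := by simp only [mul_assoc]
    _ = D.psi v := by rw [h2, inv_mul_cancel, mul_one]

theorem Ctx.phi2_eq (v : F) : D.phi2 v = D.psi (v ^ 2) := by
  have key : ∀ b, D.phi2 (b * b) = D.psi b := fun b => by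
    have h1 := D.swap_comm (D.y_sq b) (D.x_sq 1)
    rw [← commutatorElement_inv (D.x 1) (D.y b), D.comm_xy_one, _root_.mul_inv_rev, D.z_inv,
      ← (D.kap_commute b (D.z b)).inv_right.eq, ← mul_assoc, mul_assoc (D.y b * D.z b),
      ← (D.kap_commute b (D.y b)).inv_right.eq, ← mul_assoc, D.conj_z_y,
      ← (D.phi2_commute (b * b) (D.z b)).eq, mul_assoc] at h1
    have h2 : D.phi2 (b * b) * (D.kap b)⁻¹ = D.kap b := mul_left_cancel h1
    rw [← D.kap_sq]
    exact (mul_inv_eq_iff_eq_mul.1 h2)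
  rw [← key (v ^ 2), ← pow_two, ← pow_mul, show 2 * 2 = 4 from rfl, W.pow_four]

theorem Ctx.comm_yz (b c : F) : ⁅D.y b, D.z c⁆ = D.psi ((b * c) ^ 2) := by rw [D.comm_yz', D.phi2_eq]

theorem Ctx.kap_add (u v : F) : D.kap (u + v) = D.kap u * D.kap v * D.psi ((u * v) ^ 2) := by
  have h : ⁅D.x 1, D.y u * D.y v⁆ = ⁅D.x 1, D.y u⁆ * (D.y u * ⁅D.x 1, D.y v⁆ * (D.y u)⁻¹) := by
    simp only [commutatorElement_def]; group
  rw [← D.y_add, D.comm_xy_one, D.comm_xy_one, D.comm_xy_one, show (D.y u)⁻¹ = D.y u from D.lift_inv _ u,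
    ← mul_assoc (D.y u), mul_assoc (D.y u * D.z v), ← (D.kap_commute v (D.y u)).eq, ← mul_assoc (D.y u * D.z v),
    D.conj_z_y, D.phi2_eq, D.z_add] at h
  refine mul_left_cancel (a := D.z u * D.z v) (h.trans ?_)
  rw [← (D.psi_commute _ (D.z v)).eq]
  calc D.z u * D.kap u * (D.z v * D.psi ((u * v) ^ 2) * D.kap v)
      = D.z u * (D.kap u * D.z v) * (D.psi ((u * v) ^ 2) * D.kap v) := by simp only [mul_assoc]
    _ = _ := by rw [← (D.kap_commute u (D.z v)).eq, ← (D.psi_commute _ (D.kap v)).eq]; simp only [mul_assoc]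

end Cfsg.Agent.L34Univ
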