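import Cfsg.Agent.Lib.L34Univ.Images
import Cfsg.Agent.Lib.AutPSL.Basic

/-!
The diagonal, field and graph automorphisms on the lifted root groups and on the coefficients.
-/

set_option autoImplicit false
set_option linter.unusedSectionVars false

namespace Cfsg.Agent.L34Univ

open Matrix Cfsg.Agent.L34Mult Cfsg.Agent.Perm.L34Cover Cfsg.Agent.AutPSL.Basic
open scoped commutatorElement

universe u v w

variable {F : Type u} [Field F] [Fintype F] (W : Frame F)

local notation "SL3" => Matrix.SpecialLinearGroup (Fin 3) F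
local notation "PSL3" => Matrix.ProjectiveSpecialLinearGroup (Fin 3) F

/-- The Frobenius. -/
def frobRing : F ≃+* F where
  toFun x := x * x
  invFun x := x * x
  left_inv x := by show x * x * (x * x) = x; rw [show x * x * (x * x) = x ^ 4 by ring, W.pow_four]
  right_inv x := by show x * x * (x * x) = x; rw [show x * x * (x * x) = x ^ 4 by ring, W.pow_four]
  map_mul' x y := by ring
  map_add' x y := by linear_combination x * y * W.two

theorem frobRing_apply (x : F) : frobRing W x = x * x := rfl

/-- The field automorphism. -/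
def autFrob : MulAut PSL3 := fAut (frobRing W)

/-- The matrix of the diagonal automorphism. -/
def diagW : GL (Fin 3) F :=
  ⟨!![W.w, 0, 0; 0, 1, 0; 0, 0, 1], !![W.w + 1, 0, 0; 0, 1, 0; 0, 0, 1],
    by
      have h : W.w * (W.w + 1) = 1 := by linear_combination W.sq + W.w * W.two
      ext i j; fin_cases i <;> fin_cases j <;> simp [Matrix.mul_apply, Fin.sum_univ_three, h],
    by
      have h : (W.w + 1) * W.w = 1 := by linear_combination W.sq + W.w * W.two
      ext i j; fin_cases i <;> fin_cases j <;> simp [Matrix.mul_apply, Fin.sum_univ_three, h]⟩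

/-- The diagonal automorphism. -/
def autDiag : MulAut PSL3 := gAut (diagW W)

/-- The antidiagonal. -/
def antidiag : GL (Fin 3) F :=
  ⟨!![0, 0, 1; 0, 1, 0; 1, 0, 0], !![0, 0, 1; 0, 1, 0; 1, 0, 0],
    by ext i j; fin_cases i <;> fin_cases j <;> simp [Matrix.mul_apply, Fin.sum_univ_three],
    by ext i j; fin_cases i <;> fin_cases j <;> simp [Matrix.mul_apply, Fin.sum_univ_three]⟩

/-- The graph automorphism. -/
def autGraph : MulAut PSL3 := gAut (antidiag (F := F)) * iota

theorem autFrob_mk (s : SL3) : autFrob W (QuotientGroup.mk s : PSL3) = QuotientGroup.mk (fieldSL (frobRing W) s) :=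
  rfl

theorem autDiag_mk (s : SL3) : autDiag W (QuotientGroup.mk s : PSL3) = QuotientGroup.mk (conjSL (diagW W) s) := rfl

theorem autGraph_mk (s : SL3) :
    autGraph (QuotientGroup.mk s : PSL3) = QuotientGroup.mk (conjSL antidiag (iotaSL s)) := rfl

theorem autFrob_lines (a : F) :
    autFrob W (p12 a) = p12 (a * a) ∧ autFrob W (p23 a) = p23 (a * a) ∧ autFrob W (p13 a) = p13 (a * a) := by
  refine ⟨?_, ?_, ?_⟩ <;> simp only [p12, p23, p13, autFrob_mk] <;> congr 1 <;> refine Subtype.ext ?_ <;>
    rw [fieldSL_coe] <;> ext i j <;> fin_cases i <;> fin_cases j <;> simp [rowE_coe, colE_coe, frobRing_apply]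

theorem autFrob_tor : autFrob W (QuotientGroup.mk (tor W) : PSL3) = (QuotientGroup.mk (tor W))⁻¹ := by
  rw [autFrob_mk, eq_inv_iff_mul_eq_one, ← QuotientGroup.mk_mul, QuotientGroup.eq_one_iff]
  convert one_mem (Subgroup.center SL3) using 1
  refine Subtype.ext ?_
  rw [Matrix.SpecialLinearGroup.coe_mul, fieldSL_coe]
  have e1 : W.w * W.w * W.w = 1 := by linear_combination (W.w + 1) * W.sq + W.w * W.two
  have e2 : (W.w + 1) * (W.w + 1) * (W.w + 1) = 1 := by
    linear_combination (W.w + 4) * W.sq + (4 * W.w + 2) * W.two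
  ext i j
  fin_cases i <;> fin_cases j <;> simp [tor_coe, Matrix.mul_apply, Fin.sum_univ_three, frobRing_apply, e1, e2]

theorem autDiag_lines (a : F) :
    autDiag W (p12 a) = p12 (W.w * a) ∧ autDiag W (p23 a) = p23 a ∧ autDiag W (p13 a) = p13 (W.w * a) := by
  have h : W.w * (W.w + 1) = 1 := by linear_combination W.sq + W.w * W.two
  refine ⟨?_, ?_, ?_⟩ <;> simp only [p12, p23, p13, autDiag_mk] <;> congr 1 <;> refine Subtype.ext ?_ <;>
    rw [conjSL_coe] <;> ext i j <;> fin_cases i <;> fin_cases j <;>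
    simp [rowE_coe, colE_coe, diagW, Matrix.mul_apply, Fin.sum_univ_three, h]

theorem autDiag_tor : autDiag W (QuotientGroup.mk (tor W) : PSL3) = QuotientGroup.mk (tor W) := by
  have h : W.w * (W.w + 1) = 1 := by linear_combination W.sq + W.w * W.two
  rw [autDiag_mk]
  congr 1
  refine Subtype.ext ?_
  rw [conjSL_coe]
  ext i j
  fin_cases i <;> fin_cases j <;> simp [tor_coe, diagW, Matrix.mul_apply, Fin.sum_univ_three]
  linear_combination W.w * h

include W in
theorem autGraph_lines (a : F) :
    autGraph (p12 a : PSL3) = p23 a ∧ autGraph (p23 a : PSL3) = p12 a ∧ autGraph (p13 a : PSL3) = p13 a := by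
  have hn : -a = a := by linear_combination -a * W.two
  refine ⟨?_, ?_, ?_⟩ <;> simp only [p12, p23, p13, autGraph_mk] <;> congr 1 <;> refine Subtype.ext ?_ <;>
    rw [conjSL_coe, iotaSL_coe, Matrix.SpecialLinearGroup.coe_inv, Matrix.adjugate_fin_three] <;>
    ext i j <;> fin_cases i <;> fin_cases j <;>
    simp [rowE_coe, colE_coe, antidiag, Matrix.mul_apply, Matrix.vecMul, dotProduct, Matrix.transpose_apply, Fin.sum_univ_three, hn]

theorem autGraph_tor : autGraph (QuotientGroup.mk (tor W) : PSL3) = QuotientGroup.mk (tor W) := by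
  rw [autGraph_mk, mk_eq_mk_iff]
  refine ⟨W.w, ?_⟩
  rw [conjSL_coe, iotaSL_coe, Matrix.SpecialLinearGroup.coe_inv, Matrix.adjugate_fin_three]
  ext i j
  fin_cases i <;> fin_cases j <;> simp [tor_coe, antidiag, Matrix.mul_apply, Matrix.vecMul, dotProduct, Matrix.transpose_apply, Fin.sum_univ_three]
  all_goals first
    | linear_combination -W.w * W.sq - W.w ^ 2 * W.two
    | linear_combination (-1 : F) * W.sq
    | linear_combination (-1 : F) * W.sq - W.w * W.two

variable {W} {M : Type v} [Group M] {M' : Type w} [Group M']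
  {φ : M →* Matrix.ProjectiveSpecialLinearGroup (Fin 3) F}
  {φ' : M' →* Matrix.ProjectiveSpecialLinearGroup (Fin 3) F}
  (D : Ctx W φ) (D' : Ctx W φ') (b : M →* M')

/-- Multiplication by a non-zero scalar. -/
noncomputable def scaleAdd (k : F) (hk : k ≠ 0) : F ≃+ F :=
  AddEquiv.mk' (Equiv.mulLeft₀ k hk) fun x y => mul_add k x y

section Diag

variable (hb : ∀ m, φ' (b m) = autDiag W (φ m))
include hb

theorem Ctx.diag_x (a : F) : b (D.x a) = D'.x (W.w * a) :=
  D.image_line D' b (autDiag W).toMonoidHom hb (autDiag_tor W) (lx W) (lx W) (scaleAdd W.w W.ne_zero)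
    (fun a => (autDiag_lines W a).1) (fun a => mul_left_comm _ _ _) a

theorem Ctx.diag_y (a : F) : b (D.y a) = D'.y a :=
  D.image_line D' b (autDiag W).toMonoidHom hb (autDiag_tor W) (ly W) (ly W) (AddEquiv.refl F)
    (fun a => (autDiag_lines W a).2.1) (fun _ => rfl) a

theorem Ctx.diag_z (a : F) : b (D.z a) = D'.z (W.w * a) :=
  D.image_line D' b (autDiag W).toMonoidHom hb (autDiag_tor W) (lz W) (lz W) (scaleAdd W.w W.ne_zero)
    (fun a => (autDiag_lines W a).2.2) (fun a => mul_left_comm _ _ _) a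

theorem Ctx.diag_kap (v : F) : b (D.kap v) = D'.kap (W.w ^ 2 * v) := by
  rw [Ctx.kap, map_mul, map_inv, map_commutatorElement, D.diag_x D' b hb, D.diag_y D' b hb, D.diag_z D' b hb,
    mul_one, D'.comm_xy, inv_mul_cancel_left]

end Diag

section Frob

variable (hb : ∀ m, φ' (b m) = autFrob W (φ m))
include hb

theorem Ctx.frob_x (a : F) : b (D.x a) = D'.x (a * a) :=
  D.image_line_inv D' b (autFrob W).toMonoidHom hb (autFrob_tor W) (lx W) (lx W) (frobRing W).toAddEquiv
    (fun a => (autFrob_lines W a).1)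
    (fun a => by
      show (W.w + 1) * ((W.w + 1) * a * ((W.w + 1) * a)) = a * a
      linear_combination a * a * ((W.w + 4) * W.sq + (4 * W.w + 2) * W.two)) a

theorem Ctx.frob_y (a : F) : b (D.y a) = D'.y (a * a) :=
  D.image_line_inv D' b (autFrob W).toMonoidHom hb (autFrob_tor W) (ly W) (ly W) (frobRing W).toAddEquiv
    (fun a => (autFrob_lines W a).2.1)
    (fun a => by
      show (W.w + 1) * ((W.w + 1) * a * ((W.w + 1) * a)) = a * a
      linear_combination a * a * ((W.w + 4) * W.sq + (4 * W.w + 2) * W.two)) a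

theorem Ctx.frob_z (a : F) : b (D.z a) = D'.z (a * a) :=
  D.image_line_inv D' b (autFrob W).toMonoidHom hb (autFrob_tor W) (lz W) (lz W) (frobRing W).toAddEquiv
    (fun a => (autFrob_lines W a).2.2)
    (fun a => by
      show (W.w + 1 + 1) * ((W.w + 1 + 1) * a * ((W.w + 1 + 1) * a)) = a * a
      rw [show W.w + 1 + 1 = W.w by linear_combination W.two]
      linear_combination a * a * ((W.w + 1) * W.sq + W.w * W.two)) a

theorem Ctx.frob_kap (v : F) : b (D.kap v) = D'.kap (v * v) := by
  rw [Ctx.kap, map_mul, map_inv, map_commutatorElement, D.frob_x D' b hb, D.frob_y D' b hb, D.frob_z D' b hb,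
    one_mul, D'.comm_xy, one_mul, one_pow, one_mul, inv_mul_cancel_left]

end Frob

section Graph

variable (hb : ∀ m, φ' (b m) = autGraph (φ m))
include hb

theorem Ctx.graph_x (a : F) : b (D.x a) = D'.y a :=
  D.image_line D' b autGraph.toMonoidHom hb (autGraph_tor W) (lx W) (ly W) (AddEquiv.refl F)
    (fun a => (autGraph_lines W a).1) (fun _ => rfl) a

theorem Ctx.graph_y (a : F) : b (D.y a) = D'.x a :=
  D.image_line D' b autGraph.toMonoidHom hb (autGraph_tor W) (ly W) (lx W) (AddEquiv.refl F)
    (fun a => (autGraph_lines W a).2.1) (fun _ => rfl) a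

theorem Ctx.graph_z (a : F) : b (D.z a) = D'.z a :=
  D.image_line D' b autGraph.toMonoidHom hb (autGraph_tor W) (lz W) (lz W) (AddEquiv.refl F)
    (fun a => (autGraph_lines W a).2.2) (fun _ => rfl) a

theorem Ctx.graph_kap (v : F) : b (D.kap v) = (D'.kap (v * v))⁻¹ := by
  rw [Ctx.kap, map_mul, map_inv, map_commutatorElement, D.graph_x D' b hb, D.graph_y D' b hb, D.graph_z D' b hb,
    ← commutatorElement_inv, D'.comm_xy, mul_one, mul_one, _root_.mul_inv_rev, D'.z_inv, pow_two,
    ← mul_assoc, (D'.kap_commute (v * v) (D'.z v)).inv_right.eq, mul_assoc, D'.z_sq, mul_one]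

end Graph

end Cfsg.Agent.L34Univ
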