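import Cfsg.Agent.Lib.L34Mult.Exists
import Cfsg.Agent.Lib.Transfer.SplitLifts

/-!
The equivariant lifts of the root groups of `L₃(4)` to a central extension: commutators with a lift of a torus
element of order three.
-/

set_option autoImplicit false
set_option linter.unusedSectionVars false

namespace Cfsg.Agent.L34Univ

open Matrix Cfsg.Agent.L34Mult Cfsg.Agent.Perm.L34Cover
open scoped commutatorElement

universe u v

variable {F : Type u} [Field F] [Fintype F]

local notation "SL3" => Matrix.SpecialLinearGroup (Fin 3) F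
local notation "PSL3" => Matrix.ProjectiveSpecialLinearGroup (Fin 3) F

/-- A root element below the diagonal. -/
def low32 : SL3 := ⟨!![1, 0, 0; 0, 1, 0; 0, 1, 1], by simp [Matrix.det_fin_three]⟩

/-- A root element below the diagonal. -/
def low21 (b : F) : SL3 := ⟨!![1, 0, 0; b, 1, 0; 0, 0, 1], by simp [Matrix.det_fin_three]⟩

theorem low32_coe : ((low32 : SL3) : Matrix (Fin 3) (Fin 3) F) = !![1, 0, 0; 0, 1, 0; 0, 1, 1] := rfl

theorem low21_coe (b : F) : (low21 b : Matrix (Fin 3) (Fin 3) F) = !![1, 0, 0; b, 1, 0; 0, 0, 1] := rfl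

/-- The root element in the place `(1,2)`. -/
def p12 (a : F) : PSL3 := QuotientGroup.mk (rowE a 0)

/-- The root element in the place `(2,3)`. -/
def p23 (b : F) : PSL3 := QuotientGroup.mk (colE b 0)

/-- The root element in the place `(1,3)`. -/
def p13 (c : F) : PSL3 := QuotientGroup.mk (rowE 0 c)

theorem comm_eq_mk {g h k : SL3} (e : g * h = k * (h * g)) :
    ⁅(QuotientGroup.mk g : PSL3), (QuotientGroup.mk h : PSL3)⁆ = QuotientGroup.mk k := by
  rw [commutatorElement_def, mul_assoc, ← _root_.mul_inv_rev, mul_inv_eq_iff_eq_mul, ← QuotientGroup.mk_mul, e,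
    QuotientGroup.mk_mul, QuotientGroup.mk_mul]

theorem commute_mk {g h : SL3} (e : g * h = h * g) :
    Commute (QuotientGroup.mk g : PSL3) (QuotientGroup.mk h : PSL3) := by
  show _ * _ = _ * _
  rw [← QuotientGroup.mk_mul, e, QuotientGroup.mk_mul]

/-- A torus element of order three. -/
def tor (W : Frame F) : SL3 := ⟨!![W.w, 0, 0; 0, W.w + 1, 0; 0, 0, 1], by
  simp [Matrix.det_fin_three]
  linear_combination W.sq + W.w * W.two⟩

theorem tor_coe (W : Frame F) :
    (tor W : Matrix (Fin 3) (Fin 3) F) = !![W.w, 0, 0; 0, W.w + 1, 0; 0, 0, 1] := rfl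

/-- A one-parameter subgroup with what is needed for its lift: the scalar of the torus and, for every element, a
commutator expression by elements commuting with the whole subgroup. -/
structure Line (W : Frame F) where
  el : F → PSL3
  k : F
  k_ne : k ≠ 0
  add : ∀ a b, el (a + b) = el a * el b
  tor_comm : ∀ a, ⁅(QuotientGroup.mk (tor W) : PSL3), el a⁆ = el (k * a)
  split : ∀ a, ∃ p q : PSL3, ⁅p, q⁆ = el a ∧ ∀ b, Commute (el b) p ∧ Commute (el b) q

variable (W : Frame F)

/-- The line in the place `(1,2)`. -/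
def lx : Line W where
  el := p12
  k := W.w
  k_ne := W.ne_zero
  add a b := by rw [p12, p12, p12, ← QuotientGroup.mk_mul, rowE_mul, add_zero]
  tor_comm a := comm_eq_mk (by
    refine Subtype.ext ?_
    ext i j
    fin_cases i <;> fin_cases j <;>
      simp [tor_coe, rowE_coe, Matrix.SpecialLinearGroup.coe_mul, Matrix.mul_apply, Fin.sum_univ_three]
    linear_combination -a * W.sq - a * (W.w + 1) * W.two)
  split a := ⟨QuotientGroup.mk (rowE 0 a), QuotientGroup.mk low32, comm_eq_mk (by
      refine Subtype.ext ?_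
      ext i j
      fin_cases i <;> fin_cases j <;>
        simp [low32_coe, rowE_coe, Matrix.SpecialLinearGroup.coe_mul, Matrix.mul_apply, Fin.sum_univ_three]),
    fun b => ⟨commute_mk (by rw [rowE_mul, rowE_mul]; simp), commute_mk (by
      refine Subtype.ext ?_
      ext i j
      fin_cases i <;> fin_cases j <;>
        simp [low32_coe, rowE_coe, Matrix.SpecialLinearGroup.coe_mul, Matrix.mul_apply, Fin.sum_univ_three])⟩⟩

/-- The line in the place `(2,3)`. -/
def ly : Line W where
  el := p23
  k := W.w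
  k_ne := W.ne_zero
  add a b := by rw [p23, p23, p23, ← QuotientGroup.mk_mul, colE_mul, add_zero]
  tor_comm a := comm_eq_mk (by
    refine Subtype.ext ?_
    ext i j
    fin_cases i <;> fin_cases j <;>
      simp [tor_coe, colE_coe, Matrix.SpecialLinearGroup.coe_mul, Matrix.mul_apply, Fin.sum_univ_three]
    ring)
  split a := ⟨QuotientGroup.mk (low21 a), QuotientGroup.mk (rowE 0 1), comm_eq_mk (by
      refine Subtype.ext ?_
      ext i j
      fin_cases i <;> fin_cases j <;>
        simp [low21_coe, colE_coe, rowE_coe, Matrix.SpecialLinearGroup.coe_mul, Matrix.mul_apply,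
          Fin.sum_univ_three]),
    fun b => ⟨commute_mk (by
      refine Subtype.ext ?_
      ext i j
      fin_cases i <;> fin_cases j <;>
        simp [low21_coe, colE_coe, Matrix.SpecialLinearGroup.coe_mul, Matrix.mul_apply, Fin.sum_univ_three]),
      commute_mk (by
      refine Subtype.ext ?_
      ext i j
      fin_cases i <;> fin_cases j <;>
        simp [rowE_coe, colE_coe, Matrix.SpecialLinearGroup.coe_mul, Matrix.mul_apply, Fin.sum_univ_three])⟩⟩

theorem comm_p12_p23 (a b : F) : ⁅(p12 a : PSL3), p23 b⁆ = p13 (a * b) := comm_eq_mk (by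
  refine Subtype.ext ?_
  ext i j
  fin_cases i <;> fin_cases j <;>
    simp [colE_coe, rowE_coe, Matrix.SpecialLinearGroup.coe_mul, Matrix.mul_apply, Fin.sum_univ_three])

theorem commute_p12_p13 (a c : F) : Commute (p13 c : PSL3) (p12 a) :=
  commute_mk (by rw [rowE_mul, rowE_mul]; simp)

theorem commute_p23_p13 (b c : F) : Commute (p13 c : PSL3) (p23 b) := commute_mk (by
  refine Subtype.ext ?_
  ext i j
  fin_cases i <;> fin_cases j <;>
    simp [colE_coe, rowE_coe, Matrix.SpecialLinearGroup.coe_mul, Matrix.mul_apply, Fin.sum_univ_three])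

/-- The line in the place `(1,3)`. -/
def lz : Line W where
  el := p13
  k := W.w + 1
  k_ne h := W.ne_one (by linear_combination h - W.two)
  add a b := by rw [p13, p13, p13, ← QuotientGroup.mk_mul, rowE_mul, add_zero]
  tor_comm a := comm_eq_mk (by
    refine Subtype.ext ?_
    ext i j
    fin_cases i <;> fin_cases j <;>
      simp [tor_coe, rowE_coe, Matrix.SpecialLinearGroup.coe_mul, Matrix.mul_apply, Fin.sum_univ_three]
    linear_combination -a * W.two)
  split a := ⟨p12 a, p23 1, by rw [comm_p12_p23, mul_one],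
    fun b => ⟨commute_p12_p13 a b, commute_p23_p13 1 b⟩⟩

variable {M : Type v} [Group M]

/-- A central extension with a chosen lift of the torus element. -/
structure Ctx (W : Frame F) (φ : M →* Matrix.ProjectiveSpecialLinearGroup (Fin 3) F) where
  surjective : Function.Surjective φ
  central : φ.ker ≤ Subgroup.center M
  t : M
  map_t : φ t = QuotientGroup.mk (tor W)

variable {W} {φ : M →* Matrix.ProjectiveSpecialLinearGroup (Fin 3) F}

theorem Ctx.exists_ctx (hs : Function.Surjective φ) (hc : φ.ker ≤ Subgroup.center M) : Nonempty (Ctx W φ) := by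
  obtain ⟨t, ht⟩ := hs (QuotientGroup.mk (tor W))
  exact ⟨⟨hs, hc, t, ht⟩⟩

variable (D : Ctx W φ)
include D

theorem Ctx.central' {z : M} (hz : φ z = 1) (g : M) : Commute g z :=
  Subgroup.mem_center_iff.1 (D.central hz) g

/-- Lifts of an element and of a commutator of elements commuting with it commute. -/
theorem Ctx.commute_of_split {r u p q : M} (hp : Commute (φ r) (φ p)) (hq : Commute (φ r) (φ q))
    (hu : φ u = ⁅φ p, φ q⁆) : Commute r u := by
  have hk : φ (⁅p, q⁆⁻¹ * u) = 1 := by rw [map_mul, map_inv, map_commutatorElement, hu, inv_mul_cancel]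
  have h1 : r * ⁅p, q⁆ * r⁻¹ = ⁅p, q⁆ := by
    rw [show r * ⁅p, q⁆ * r⁻¹ = ⁅r * p * r⁻¹, r * q * r⁻¹⁆ by simp only [commutatorElement_def]; group]
    exact Transfer.SplitLifts.comm_congr D.central (by rw [map_mul, map_mul, map_inv, hp.eq, mul_inv_cancel_right])
      (by rw [map_mul, map_mul, map_inv, hq.eq, mul_inv_cancel_right])
  have h2 : Commute r ⁅p, q⁆ := mul_inv_eq_iff_eq_mul.1 h1
  rw [← mul_inv_cancel_left ⁅p, q⁆ u]
  exact h2.mul_right (D.central' hk r)

theorem Ctx.line_commute (L : Line W) {r u : M} {a b : F} (hr : φ r = L.el a) (hu : φ u = L.el b) :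
    Commute r u := by
  obtain ⟨p, q, h1, h2⟩ := L.split b
  obtain ⟨p, rfl⟩ := D.surjective p
  obtain ⟨q, rfl⟩ := D.surjective q
  exact D.commute_of_split (hr ▸ (h2 a).1) (hr ▸ (h2 a).2) (hu.trans h1.symm)

/-- The equivariant lift of a line. -/
noncomputable def Ctx.lift (L : Line W) (a : F) : M :=
  ⁅D.t, (D.surjective (L.el (L.k⁻¹ * a))).choose⁆

theorem Ctx.lift_eq (L : Line W) {a : F} {u : M} (hu : φ u = L.el (L.k⁻¹ * a)) : D.lift L a = ⁅D.t, u⁆ :=
  Transfer.SplitLifts.comm_congr D.central rfl ((D.surjective _).choose_spec.trans hu.symm)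

theorem Ctx.map_lift (L : Line W) (a : F) : φ (D.lift L a) = L.el a := by
  rw [Ctx.lift, map_commutatorElement, (D.surjective _).choose_spec, D.map_t, L.tor_comm,
    mul_inv_cancel_left₀ L.k_ne]

theorem Ctx.lift_add (L : Line W) (a b : F) : D.lift L (a + b) = D.lift L a * D.lift L b := by
  obtain ⟨u, hu⟩ := D.surjective (L.el (L.k⁻¹ * a))
  obtain ⟨v, hv⟩ := D.surjective (L.el (L.k⁻¹ * b))
  rw [D.lift_eq L (u := u * v) (by rw [map_mul, hu, hv, ← L.add, mul_add]),
    show ⁅D.t, u * v⁆ = ⁅D.t, u⁆ * (u * ⁅D.t, v⁆ * u⁻¹) by simp only [commutatorElement_def]; group,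
    ← D.lift_eq L hu, ← D.lift_eq L hv, (D.line_commute L hu (D.map_lift L b)).eq, mul_inv_cancel_right]

theorem Ctx.lift_zero (L : Line W) : D.lift L 0 = 1 := by
  have h := D.lift_add L 0 0
  rw [add_zero] at h
  exact left_eq_mul.1 h

theorem Ctx.lift_sq (L : Line W) (a : F) : D.lift L a * D.lift L a = 1 := by
  rw [← D.lift_add, W.add_self, D.lift_zero]

theorem Ctx.lift_inv (L : Line W) (a : F) : (D.lift L a)⁻¹ = D.lift L a :=
  inv_eq_of_mul_eq_one_right (D.lift_sq L a)

/-- The torus lift carries the lifted line to itself. -/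
theorem Ctx.conj_lift (L : Line W) (a : F) : D.t * D.lift L a * D.t⁻¹ = D.lift L ((L.k + 1) * a) := by
  obtain ⟨u, hu⟩ := D.surjective (L.el (L.k⁻¹ * a))
  have h : φ (D.t * u * D.t⁻¹) = L.el (L.k⁻¹ * ((L.k + 1) * a)) := by
    have h' := L.tor_comm (L.k⁻¹ * a)
    rw [commutatorElement_def, mul_inv_eq_iff_eq_mul, ← L.add] at h'
    rw [map_mul, map_mul, map_inv, hu, D.map_t, h']
    congr 1
    ring
  rw [D.lift_eq L hu, D.lift_eq L h]
  simp only [commutatorElement_def]
  group

/-- The lifts in the three places. -/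
noncomputable def Ctx.x (a : F) : M := D.lift (lx W) a

/-- The lifts in the three places. -/
noncomputable def Ctx.y (b : F) : M := D.lift (ly W) b

/-- The lifts in the three places. -/
noncomputable def Ctx.z (c : F) : M := D.lift (lz W) c

theorem Ctx.map_x (a : F) : φ (D.x a) = p12 a := D.map_lift _ a

theorem Ctx.map_y (b : F) : φ (D.y b) = p23 b := D.map_lift _ b

theorem Ctx.map_z (c : F) : φ (D.z c) = p13 c := D.map_lift _ c

end Cfsg.Agent.L34Univ
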